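import Cfsg.Agent.H729.PairCoN

/-!
# `Co2` has no elements of order 22 (helper385; the proof of `H729.PairCoN.co2_model`)
-/

set_option autoImplicit false

namespace Cfsg.Agent.H385.Sp

open Subgroup hiding mk
open Cfsg Cfsg.Agent.H729.PairBase Cfsg.Agent.H463.Pair
open Cfsg.Agent.SporadicA.GolayBase Cfsg.Agent.SporadicA.GolayPerm
open Cfsg.Agent.SporadicA.Co0Mono hiding mk
open Cfsg.Agent.SporadicA.Co1Simple Cfsg.Agent.Co2Type.Mono
open Cfsg.Agent.SporadicStructure.M24El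
open Cfsg.Agent.H729.MData Cfsg.Agent.H729.Count Cfsg.Agent.H729.PairEleven Cfsg.Agent.H729.PairCoN
open Cfsg.Agent.CoOneType.ClosingFacts (mk mk_mul mk_inv exists_mk mk_eq_one mk_eq)

theorem co2_noTwo : NoTwo Spor.Co2 11 := by
  have : Finite Spor.Co2 := Finite.of_injective _ toCo0_injective
  refine NoTwo.of_one (by norm_num) (by rw [Cfsg.Agent.Schreier.CoTwoStab.card]; norm_num) orderOf_x2 ?_
  intro t ht hc
  have h1 : toCo0 t = 1 := by
    apply eq_one_of_fix
    · rw [← toCo0_xx, ← map_mul, ← map_mul, hc.eq]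
    · rw [← map_mul]
      have h2 := pow_orderOf_eq_one t
      rw [ht, pow_two] at h2
      rw [h2, map_one]
    · exact toCo0_smul t
  rw [← map_one toCo0] at h1
  rw [toCo0_injective h1, orderOf_one] at ht
  norm_num at ht

/-- `22 ∉ ω(Co2)` -/
theorem co2_22 {X : Type*} [Group X] (h : Spor.IsoCo2 X) : ¬ ∃ x : X, orderOf x = 22 := by
  obtain ⟨e⟩ := h
  rintro ⟨x, hx⟩
  have h11 : orderOf (e x ^ 2) = 11 := by rw [orderOf_pow' _ (by norm_num), MulEquiv.orderOf_eq, hx]; rfl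
  have h2 : orderOf (e x ^ 11) = 2 := by rw [orderOf_pow' _ (by norm_num), MulEquiv.orderOf_eq, hx]; rfl
  exact co2_noTwo _ _ h2 h11 ((Commute.refl (e x)).pow_pow 11 2)

end Cfsg.Agent.H385.Sp
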