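import Cfsg.Agent.H149.Sp.Conway
import Cfsg.Agent.H898.RowCo0
import Cfsg.Agent.CpAutCoFive.Core
import Cfsg.Agent.H385.SpCoTwo
import Cfsg.Agent.H393.Iso.All

/-!
# Element orders not in the subgroups of `Co0` fixing a vector (helper385)

* `LEmb G` : `G` embeds in `Co0` fixing a nonzero vector: `co2`, `co3`, `mcl`, `hs`, `m24`, `m23`, `m22`;
* `LEmb.not_mul` : no element of order `p q` for different `p, q ∈ {5, 7, 11, 13, 23}`;
* `LEmb.not_33`;
* `co2_22`, `suz_22`.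
-/

set_option autoImplicit false

namespace Cfsg.Agent.H385.Sp

open Cfsg Cfsg.Agent.H149.Sp Module
open Cfsg.Agent.SporadicA.Co0Mono (permCo0)
open Cfsg.Agent.SigZeroCo2.Rank (fix mem_fix)

/-- an embedding in the stabilizer of a nonzero vector of the Leech lattice -/
def LEmb (G : Type*) [Group G] : Prop :=
  ∃ (f : G →* Co0) (v : leechLattice), Function.Injective f ∧ v ≠ 0 ∧ ∀ g, f g • v = v

theorem LEmb.not_mul {G : Type*} [Group G] (h : LEmb G) {p q : ℕ} (hp : P5 p) (hq : P5 q) (hpq : p < q) :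
    ¬ ∃ g : G, orderOf g = p * q := by
  obtain ⟨f, v, hf, hv, hfix⟩ := h
  by_cases h57 : p = 5 ∧ q = 7
  · obtain ⟨rfl, rfl⟩ := h57
    exact not_adj_57 f hf hv hfix
  · exact not_adj_of_emb f hf hp hq hpq h57

theorem LEmb.not_33 {G : Type*} [Group G] (h : LEmb G) : ¬ ∃ g : G, orderOf g = 3 * 11 := by
  obtain ⟨f, v, hf, hv, hfix⟩ := h
  rintro ⟨g, hg⟩
  have ho : orderOf (f g) = 33 := by rw [orderOf_injective f hf, hg]
  have h3 : orderOf (f g ^ 11) = 3 := by rw [orderOf_pow' _ (by norm_num), ho]; rfl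
  have h11 : orderOf (f g ^ 3) = 11 := by rw [orderOf_pow' _ (by norm_num), ho]; rfl
  have h0 := H898.RowCo0.three_eleven h3 h11 ((Commute.refl (f g)).pow_pow 11 3)
  refine CpAutCoFive.finrank_fix_ne_zero hv ?_ h0
  rw [← map_pow]
  exact hfix _

theorem LEmb.congr {G H : Type*} [Group G] [Group H] (e : G ≃* H) (h : LEmb H) : LEmb G := by
  obtain ⟨f, v, hf, hv, hfix⟩ := h
  exact ⟨f.comp e.toMonoidHom, v, hf.comp e.injective, hv, fun g => hfix (e g)⟩

variable {X : Type*} [Group X]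

theorem lemb_co2 (h : Spor.IsoCo2 X) : LEmb X := by
  obtain ⟨e⟩ := h
  refine LEmb.congr e ⟨Subgroup.inclusion (inf_le_left : Spor.Co2 ≤ Co0), Spor.leechU, Subgroup.inclusion_injective _,
    leechU_ne, fun g => g.2.2⟩

theorem lemb_co3 (h : Spor.IsoCo3 X) : LEmb X := by
  obtain ⟨e⟩ := h
  refine LEmb.congr e ⟨Subgroup.inclusion (inf_le_left : Spor.Co3 ≤ Co0), Spor.leechV, Subgroup.inclusion_injective _,
    leechV_ne, fun g => g.2.2⟩

theorem lemb_mcl (h : Spor.IsoMcL X) : LEmb X := by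
  obtain ⟨e⟩ := h
  refine LEmb.congr e ⟨Subgroup.inclusion (inf_le_left.trans inf_le_left : Spor.McL ≤ Co0), Spor.leechU,
    Subgroup.inclusion_injective _, leechU_ne, fun g => g.2.2⟩

theorem lemb_hs (h : Spor.IsoHS X) : LEmb X := by
  obtain ⟨e⟩ := h
  refine LEmb.congr e ⟨Subgroup.inclusion (inf_le_left.trans inf_le_left : Spor.HS ≤ Co0), Spor.leechV,
    Subgroup.inclusion_injective _, leechV_ne, fun g => g.2.1.2⟩

theorem lemb_m22 (h : Spor.IsoM22 X) : LEmb X := by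
  obtain ⟨e⟩ := h
  exact LEmb.congr e ⟨H45.Thin.Leech.emb, Spor.leechU,
    CoOneType.Thirteen.permCo0_injective.comp (Subgroup.inclusion_injective _), leechU_ne, H45.Thin.Leech.emb_U⟩

/-- `22 ∉ ω(Suz)` -/
theorem suz_22 (h : Spor.IsoSuz X) [Finite X] : ¬ ∃ x : X, orderOf x = 22 := by
  rintro ⟨x, hx⟩
  have h11 : orderOf (x ^ 2) = 11 := by rw [orderOf_pow' _ (by norm_num), hx]; rfl
  have h2 : orderOf (x ^ 11) = 2 := by rw [orderOf_pow' _ (by norm_num), hx]; rfl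
  exact H393.Iso.na_suz h _ _ h11 h2 (((Commute.refl x).pow_pow 2 11).eq)

end Cfsg.Agent.H385.Sp
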