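import Cfsg.Agent.H385.Circ

set_option autoImplicit false
set_option linter.unusedSectionVars false

/-!
S3513, core part 3: maximal cliques are disjoint; in a primitive group every `p`-set is a circuit.
-/

namespace Cfsg.Agent.H385.St

open MulAction Pointwise

variable {G α : Type*} [Group G] [Finite G] [MulAction G α] [Fintype α] [DecidableEq α] {p : ℕ}
  [Fact p.Prime]

theorem card_inter_ge {D E W : Finset α} (hD : D ⊆ W) (hE : E ⊆ W) :
    D.card + E.card ≤ W.card + (D ∩ E).card := by
  have h1 := Finset.card_union_add_card_inter D E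
  have h2 : (D ∪ E).card ≤ W.card := Finset.card_le_card (Finset.union_subset hD hE)
  omega

/-- the key contradiction -/
theorem blocks_aux {k : ℕ} (hk1 : 1 ≤ k) (hkp : k + 2 ≤ p)
    (hmax : ∀ K K' : Finset α, Maximal (Clq p G) K → Maximal (Clq p G) K' → K ≠ K' →
      (K ∩ K').card ≤ k) {W : Finset α} (hW : W.card + k = 2 * p) {P : Sylow p G}
    (hP : (P : Subgroup G) ≤ stabilizer G W) {L₀ : Finset α} (hL₀ : Maximal (Clq p G) L₀)
    (hc₀ : W \ Fx α (P : Subgroup G) ⊆ L₀) (hc₀c : (W \ Fx α (P : Subgroup G)).card = p)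
    {L D : Finset α} (hL : Maximal (Clq p G) L) (hLL : L ≠ L₀) (hDL : D ⊆ L) (hDW : D ⊆ W)
    (hDc : D.card = p) : False := by
  set c₀ := W \ Fx α (P : Subgroup G) with hc₀def
  have hc₀W : c₀ ⊆ W := Finset.sdiff_subset
  -- the fixed points in `W` lie in `D`
  have hFD : ∀ b ∈ W, b ∉ c₀ → b ∈ D := by
    intro b hb hbc
    by_contra hbD
    have h1 : D ⊆ W.erase b := fun x hx => Finset.mem_erase.2 ⟨fun h => hbD (h ▸ hx), hDW hx⟩
    have h2 : c₀ ⊆ W.erase b := fun x hx => Finset.mem_erase.2 ⟨fun h => hbc (h ▸ hx), hc₀W hx⟩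
    have h3 := card_inter_ge h1 h2
    rw [Finset.card_erase_of_mem hb] at h3
    have h4 : (D ∩ c₀).card ≤ (L ∩ L₀).card :=
      Finset.card_le_card (Finset.inter_subset_inter hDL hc₀)
    have h5 := hmax L L₀ hL hL₀ hLL
    have h6 : 0 < W.card := Finset.card_pos.2 ⟨b, hb⟩
    omega
  -- two points outside `D`
  have h1 : 1 < (W \ D).card := by
    rw [Finset.card_sdiff_of_subset hDW]; omega
  obtain ⟨b, hb, b', hb', hbb'⟩ := Finset.one_lt_card.1 h1
  rw [Finset.mem_sdiff] at hb hb'
  have hbc : b ∈ c₀ := by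
    by_contra h
    exact hb.2 (hFD b hb.1 h)
  have hbc' : b' ∈ c₀ := by
    by_contra h
    exact hb'.2 (hFD b' hb'.1 h)
  have hPc := sdiff_Fx_stab hP
  have hbF : b ∉ Fx α (P : Subgroup G) := (Finset.mem_sdiff.1 hbc).2
  obtain ⟨g, hg, hgb⟩ := trans_of_card P.2 hPc hc₀c.le hbc hbF b' hbc'
  -- `g` moves the clique `L`
  have hgL : g • L ≠ L := by
    intro hgL
    set Q : Subgroup G := Subgroup.zpowers g with hQ
    have hQP : Q ≤ P := by
      rw [hQ, Subgroup.zpowers_le]
      exact hg
    have hQp : IsPGroup p Q := P.2.to_le hQP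
    have hbQ : b ∉ Fx α Q := by
      rw [mem_Fx]
      intro h
      exact hbb' ((h g (Subgroup.mem_zpowers g)).symm.trans hgb)
    have htr := trans_of_card hQp (hQP.trans hPc) hc₀c.le hbc hbQ
    -- a point of `D` in `c₀`
    obtain ⟨d, hd⟩ : (D ∩ c₀).Nonempty := by
      rw [← Finset.card_pos]
      have := card_inter_ge hDW hc₀W
      omega
    rw [Finset.mem_inter] at hd
    obtain ⟨q, hq, hqd⟩ := htr d hd.2
    have hQL : Q ≤ stabilizer G L := by
      rw [hQ, Subgroup.zpowers_le]
      exact hgL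
    have hsub : c₀ ⊆ L := by
      intro c hc
      obtain ⟨r, hr, hrc⟩ := htr c hc
      have : (r * q⁻¹) • d = c := by
        rw [mul_smul, ← hqd, inv_smul_smul, hrc]
      rw [← this]
      exact mem_stab.1 (hQL (mul_mem hr (inv_mem hq))) d (hDL hd.1)
    have h2 := hmax L L₀ hL hL₀ hLL
    have h3 : c₀.card ≤ (L ∩ L₀).card := Finset.card_le_card (Finset.subset_inter hsub hc₀)
    omega
  have h2 := hmax L (g • L) hL (maximal_smul hL g) hgL.symm
  have h3 : D ⊆ W.erase b' := fun x hx => Finset.mem_erase.2 ⟨fun h => hb'.2 (h ▸ hx), hDW hx⟩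
  have h4 : g • D ⊆ W.erase b' := by
    intro x hx
    obtain ⟨y, hy, rfl⟩ := Finset.mem_smul_finset.1 hx
    rw [Finset.mem_erase]
    refine ⟨fun h => hb.2 ?_, le_stab.1 hP g hg y (hDW hy)⟩
    rw [← hgb] at h
    rw [← smul_left_cancel g h]
    exact hy
  have h5 := card_inter_ge h3 h4
  rw [Finset.card_smul_finset, Finset.card_erase_of_mem hb'.1] at h5
  have h6 : (D ∩ g • D).card ≤ (L ∩ g • L).card :=
    Finset.card_le_card (Finset.inter_subset_inter hDL
      (Finset.smul_finset_subset_smul_finset hDL))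
  have h7 : 0 < W.card := Finset.card_pos.2 ⟨b, hb.1⟩
  omega

theorem maximal_disjoint (hstar : Star p G α) {K K' : Finset α} (hK : Maximal (Clq p G) K)
    (hK' : Maximal (Clq p G) K') (hne : K ≠ K') : Disjoint K K' := by
  classical
  by_contra hdis
  -- the pair with the largest intersection
  let S : Finset (Finset α × Finset α) :=
    Finset.univ.filter (fun q => Maximal (Clq p G) q.1 ∧ Maximal (Clq p G) q.2 ∧ q.1 ≠ q.2)
  have hSne : (K, K') ∈ S := by
    simp only [S, Finset.mem_filter, Finset.mem_univ, true_and]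
    exact ⟨hK, hK', hne⟩
  obtain ⟨⟨L, L'⟩, hLS, hLmax⟩ := Finset.exists_max_image S (fun q => (q.1 ∩ q.2).card) ⟨_, hSne⟩
  simp only [S, Finset.mem_filter, Finset.mem_univ, true_and] at hLS hLmax
  obtain ⟨hL, hL', hLL'⟩ := hLS
  set k := (L ∩ L').card with hk
  have hmax : ∀ K K' : Finset α, Maximal (Clq p G) K → Maximal (Clq p G) K' → K ≠ K' →
      (K ∩ K').card ≤ k := fun K K' h1 h2 h3 => hLmax (K, K') ⟨h1, h2, h3⟩
  have hk1 : 1 ≤ k := by
    have h1 := hmax K K' hK hK' hne
    have h2 : 0 < (K ∩ K').card := by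
      rw [Finset.card_pos, Finset.nonempty_iff_ne_empty]
      intro h
      exact hdis (Finset.disjoint_iff_inter_eq_empty.2 h)
    omega
  have hkp : k + 2 ≤ p := by
    by_contra hcon
    apply hLL'
    exact maximal_eq hstar hL hL' (Finset.Subset.refl (L ∩ L')) (by omega)
  obtain ⟨C, hCs, hCL, hCc⟩ := Finset.exists_subsuperset_card_eq
    (Finset.inter_subset_left : L ∩ L' ⊆ L) (n := p) (by omega) hL.1.1
  obtain ⟨C', hCs', hCL', hCc'⟩ := Finset.exists_subsuperset_card_eq
    (Finset.inter_subset_right : L ∩ L' ⊆ L') (n := p) (by omega) hL'.1.1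
  have hCC : C ∩ C' = L ∩ L' := by
    apply Finset.Subset.antisymm
    · exact Finset.inter_subset_inter hCL hCL'
    · exact Finset.subset_inter hCs hCs'
  set W := C ∪ C' with hWdef
  have hWc : W.card + k = 2 * p := by
    have := Finset.card_union_add_card_inter C C'
    rw [hCC, ← hWdef] at this
    omega
  obtain ⟨P, hP⟩ := hstar W
  have hWF : ¬ W ⊆ Fx α (P : Subgroup G) := fun h =>
    (hL.1.2 C hCL hCc).not_subset P (Finset.subset_union_left.trans h)
  have hc₀ := circ_sdiff hP (by omega) hWF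
  have hclq : Clq p G (W \ Fx α (P : Subgroup G)) := by
    refine ⟨hc₀.1.ge, fun E hE hEc => ?_⟩
    rw [Finset.eq_of_subset_of_card_le hE (by rw [hc₀.1, hEc])]
    exact hc₀
  obtain ⟨L₀, hL₀s, hL₀⟩ := exists_maximal hclq
  by_cases hcase : L = L₀
  · exact blocks_aux hk1 hkp hmax hWc hP hL₀ hL₀s hc₀.1 hL'
      (fun h => hLL' (hcase.trans h.symm)) hCL' Finset.subset_union_right hCc'
  · exact blocks_aux hk1 hkp hmax hWc hP hL₀ hL₀s hc₀.1 hL hcase hCL
      Finset.subset_union_left hCc

theorem all_circ (hstar : Star p G α) [FaithfulSMul G α] (hprim : IsPreprimitive G α)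
    (hdiv : p ∣ Nat.card G) (C : Finset α) (hC : C.card = p) : Circ p G C := by
  have hp2 := (Fact.out : p.Prime).two_le
  obtain ⟨C₀, hC₀⟩ := exists_circ hstar hdiv
  have hclq : Clq p G C₀ := by
    refine ⟨hC₀.1.ge, fun E hE hEc => ?_⟩
    rw [Finset.eq_of_subset_of_card_le hE (by rw [hC₀.1, hEc])]
    exact hC₀
  obtain ⟨K, _, hK⟩ := exists_maximal hclq
  have hblock : IsBlock G (K : Set α) := by
    rw [isBlock_iff_smul_eq_or_disjoint]
    intro g
    by_cases h : g • K = K
    · left
      rw [← Finset.coe_smul_finset, h]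
    · right
      rw [← Finset.coe_smul_finset, Finset.disjoint_coe]
      exact maximal_disjoint hstar (maximal_smul hK g) hK h
  rcases hprim.isTrivialBlock_of_isBlock hblock with h | h
  · exfalso
    have h1 : K.card ≤ 1 := by
      rw [Finset.card_le_one]
      intro a ha b hb
      exact h ha hb
    have := hK.1.1
    omega
  · apply hK.1.2 C _ hC
    intro x _
    have : x ∈ (K : Set α) := by rw [h]; trivial
    exact this

/-- A Sylow `p`-subgroup has exactly `p - 1` fixed points. -/
theorem card_Fx (hstar : Star p G α) [FaithfulSMul G α] (hprim : IsPreprimitive G α)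
    (hdiv : p ∣ Nat.card G) (P : Sylow p G) : (Fx α (P : Subgroup G)).card + 1 = p := by
  have hp2 := (Fact.out : p.Prime).two_le
  have hcirc := all_circ hstar hprim hdiv
  apply le_antisymm
  · by_contra hcon
    obtain ⟨C, hC, hCc⟩ := Finset.exists_subset_card_eq (s := Fx α (P : Subgroup G)) (n := p)
      (by omega)
    exact (hcirc C hCc).not_subset P hC
  · obtain ⟨C₀, hC₀⟩ := exists_circ hstar hdiv
    obtain ⟨E, hE, hEc⟩ := Finset.exists_subset_card_eq (s := C₀) (n := p - 1)
      (by have := hC₀.1; omega)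
    obtain ⟨P', hP'⟩ := hstar E
    have h1 := subset_Fx_of_card_lt P'.2 hP' (by omega)
    obtain ⟨g, hg⟩ := exists_smul_eq G P' P
    have h2 : (Fx α (P : Subgroup G)).card = (Fx α (P' : Subgroup G)).card := by
      rw [← hg, Fx_smul, Finset.card_smul_finset]
    have h3 := Finset.card_le_card h1
    omega

end Cfsg.Agent.H385.St
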