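import Cfsg.Agent.H341.ThreeFin
import Cfsg.Agent.H548.Crit
import Cfsg.Agent.S2601
import Cfsg.Agent.S2602
import Cfsg.Agent.S2603
import Cfsg.Agent.S2126
import Cfsg.Agent.S2065

/-!
# Lemma (L1) for S3513: `9 ∤ |M|` implies `6 ∤ |Out M|` for known simple groups (helper385)
-/

set_option autoImplicit false

namespace Cfsg.Agent.H385.OutSix

open Subgroup Cfsg OrdDiv Cfsg.Agent.H341.ThreeList Cfsg.Agent.H341.ThreeFin

universe u

/-- the order of a group with a homomorphism onto a group of order `n` with kernel of order `d` -/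
theorem card_of_hom {G : Type*} [Group G] {A : Type*} [Group A] {n d : ℕ} (φ : G →* A)
    (hφ : Function.Surjective φ) (hA : Nat.card A = n) (hd : Nat.card φ.ker = d) : Nat.card G = d * n := by
  rw [← hd, ← hA, ← Subgroup.card_mul_index φ.ker, Subgroup.index_ker, MonoidHom.range_eq_top.2 hφ]
  rw [Nat.card_congr Subgroup.topEquiv.toEquiv]

theorem dvd_of_not_gcd {d n : ℕ} (hd : ¬ 3 ∣ d) (h : 6 ∣ d * n) : 3 ∣ n := by
  have h1 : 3 ∣ d * n := (by norm_num : 3 ∣ 6).trans h
  exact ((Nat.Prime.dvd_mul Nat.prime_three).1 h1).resolve_left hd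

/-- `q = p ^ f` with `3 ∣ f` is a cube -/
theorem cube_of {p f q : ℕ} (hq : q = p ^ f) (hf : 3 ∣ f) : ∃ r : ℕ, q = r ^ 3 := by
  obtain ⟨k, rfl⟩ := hf
  exact ⟨p ^ k, by rw [hq, ← pow_mul, mul_comm]⟩

theorem nine_sq_of_cube {q r : ℕ} (hq : q = r ^ 3) (h3 : ¬ 3 ∣ q) : 9 ∣ q ^ 2 - 1 := by
  have h3' : ¬ 3 ∣ r := fun h => h3 (by rw [hq]; exact h.trans (dvd_pow_self r (by norm_num)))
  rw [hq, ← pow_mul]
  exact nine_six h3'

/-- the three-part of the order of the exceptional groups other than the Suzuki groups -/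
theorem exc_three (T : OrderTable.{u}) {S : Type u} [Group S] (h : IsExceptionalLieType S)
    (h3 : ¬ 3 ∣ Nat.card S) : Lie.IsoSuzuki S := by
  have key : ∀ q : ℕ, 1 ≤ q → 3 ∣ q ^ 3 * (q ^ 2 - 1) := by
    intro q hq
    by_cases hq3 : 3 ∣ q
    · exact Dvd.dvd.mul_right (hq3.trans (dvd_pow_self q (by norm_num))) _
    · exact Dvd.dvd.mul_left (three_sq hq3) _
  have key2 : ∀ (q : ℕ) (k : ℕ), 1 ≤ k → 3 ∣ q ^ k * (q ^ 2 - 1) := by
    intro q k hk
    by_cases hq3 : 3 ∣ q
    · exact Dvd.dvd.mul_right (hq3.trans (dvd_pow_self q (by omega))) _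
    · exact Dvd.dvd.mul_left (three_sq hq3) _
  rcases h with h | h | h | h | h | h | h | h | h | h | h
  · exfalso
    obtain ⟨F, _, _, hq, ⟨e⟩⟩ := h
    apply h3
    rw [Nat.card_congr e.toEquiv, T.g2 F]
    exact Dvd.dvd.mul_right (key2 _ _ (by norm_num)) _
  · exfalso
    obtain ⟨F, _, _, ⟨e⟩⟩ := h
    apply h3
    rw [Nat.card_congr e.toEquiv, T.f4 F _ rfl]
    iterate 3 apply Dvd.dvd.mul_right
    exact key2 _ _ (by norm_num)
  · exfalso
    apply h3
    by_contra h3'
    have := exc_false T (Or.inr (Or.inr (Or.inl h))) (by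
      obtain ⟨F, _, _, ⟨e⟩⟩ := h
      rw [Nat.card_congr e.toEquiv] at h3 ⊢
      have hc := T.e6 F _ rfl
      set q := Fintype.card F with hqd
      have h9 : 9 ∣ Nat.gcd 3 (q - 1) * Nat.card ↥(Lie.chevE6.group F) := by
        rw [hc]
        by_cases hq3 : 3 ∣ q
        · iterate 6 apply Dvd.dvd.mul_right
          exact (by norm_num : 9 ∣ 27).trans (cube_dvd hq3 (by norm_num))
        · iterate 3 apply Dvd.dvd.mul_right
          exact Dvd.dvd.mul_left (nine_six hq3) _
      rcases (Nat.dvd_prime Nat.prime_three).1 (Nat.gcd_dvd_left 3 (q - 1)) with hg | hg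
      · rw [hg, one_mul] at h9
        exact (by norm_num : 3 ∣ 9).trans h9
      · rw [hg] at h9
        exact Nat.dvd_of_mul_dvd_mul_left (by norm_num) (show 3 * 3 ∣ 3 * _ from h9))
    exact h3' ((by norm_num : 3 ∣ 27).trans this)
  · exfalso
    obtain ⟨F, _, _, ⟨e⟩⟩ := h
    apply h3
    rw [Nat.card_congr e.toEquiv]
    have hc := T.e7 F _ rfl
    have h1 : 3 ∣ Nat.gcd 2 (Fintype.card F - 1) * Nat.card ↥(Lie.chevE7.group F) := by
      rw [hc]
      iterate 6 apply Dvd.dvd.mul_right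
      exact key2 _ _ (by norm_num)
    exact ((Nat.Prime.dvd_mul Nat.prime_three).1 h1).resolve_left not_dvd_gcd_two
  · exfalso
    obtain ⟨F, _, _, ⟨e⟩⟩ := h
    apply h3
    rw [Nat.card_congr e.toEquiv, T.e8 F _ rfl]
    iterate 7 apply Dvd.dvd.mul_right
    exact key2 _ _ (by norm_num)
  · exfalso
    obtain ⟨F, _, _, q, hq, hF, ⟨e⟩⟩ := h
    apply h3
    rw [Nat.card_congr e.toEquiv]
    have hc := T.te6 F q hq hF
    have h9 : 9 ∣ Nat.gcd 3 (q + 1) * Nat.card ↥(Lie.twistedE6 F q) := by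
      rw [hc]
      by_cases hq3 : 3 ∣ q
      · iterate 6 apply Dvd.dvd.mul_right
        exact (by norm_num : 9 ∣ 27).trans (cube_dvd hq3 (by norm_num))
      · iterate 3 apply Dvd.dvd.mul_right
        exact Dvd.dvd.mul_left (nine_six hq3) _
    rcases (Nat.dvd_prime Nat.prime_three).1 (Nat.gcd_dvd_left 3 (q + 1)) with hg | hg
    · rw [hg, one_mul] at h9
      exact (by norm_num : 3 ∣ 9).trans h9
    · rw [hg] at h9
      exact Nat.dvd_of_mul_dvd_mul_left (by norm_num) (show 3 * 3 ∣ 3 * _ from h9)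
  · exfalso
    obtain ⟨F, _, _, q, hq, hF, ⟨e⟩⟩ := h
    apply h3
    rw [Nat.card_congr e.toEquiv, T.td4 F q hq hF]
    iterate 2 apply Dvd.dvd.mul_right
    exact key2 _ _ (by norm_num)
  · exact h
  · exfalso
    obtain ⟨F, _, _, m, hm, hF, ⟨e⟩⟩ := h
    apply h3
    rw [Nat.card_congr e.toEquiv, T.ree F m hm hF]
    iterate 2 apply Dvd.dvd.mul_right
    exact (dvd_pow_self 3 (by omega)).trans (dvd_pow_self _ (by norm_num))
  · exfalso
    obtain ⟨F, _, _, m, hm, hF, ⟨e⟩⟩ := h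
    apply h3
    rw [Nat.card_congr e.toEquiv, T.tf4 F m hm hF]
    have hm3 := two_pow_mod m
    set q := 2 ^ (2 * m + 1) with hqd
    apply Dvd.dvd.mul_right
    apply Dvd.dvd.mul_left
    exact three_four (by omega)
  · exfalso
    apply h3
    rw [T.spor S (.tits, 17971200) (by decide) h]
    norm_num

theorem out_suz {M : Type u} [Group M] (h : Lie.IsoSuzuki M) : ¬ 6 ∣ Nat.card (Cfsg.Out M) := by
  obtain ⟨F, _, _, m, hm, hF, ⟨e⟩⟩ := h
  rw [Cfsg.Agent.H548.Crit.card_out_congr e, S2126.result hm hF]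
  omega

theorem out_psl2 {F : Type} [Field F] [Fintype F] (hq : 4 ≤ Fintype.card F)
    (h9 : ¬ 9 ∣ Nat.card (Matrix.ProjectiveSpecialLinearGroup (Fin 2) F)) :
    ¬ 6 ∣ Nat.card (Cfsg.Out (Matrix.ProjectiveSpecialLinearGroup (Fin 2) F)) := by
  intro h6
  obtain ⟨p, hp⟩ := CharP.exists F
  obtain ⟨f, hpp, hn⟩ := FiniteField.card F p
  have : Fact p.Prime := ⟨hpp⟩
  obtain ⟨φ, hφ, -, hk⟩ := S2602.result (F := F) (p := p) (f := (f : ℕ)) f.2 hn (by rw [← hn]; exact hq)
  have h1 := card_of_hom φ hφ (n := (f : ℕ)) (Nat.card_zmod f) hk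
  rw [h1] at h6
  have h3f := dvd_of_not_gcd not_dvd_gcd_two h6
  obtain ⟨r, hr⟩ := cube_of hn h3f
  apply h9
  have hc' := card_psl (F := F) (n := 2) le_rfl
  rw [show 2 - 1 = 1 by rfl, Finset.prod_range_one] at hc'
  norm_num at hc'
  refine of_mul9 not_dvd_gcd_two hc' ?_
  by_cases h3 : 3 ∣ Fintype.card F
  · apply Dvd.dvd.mul_right
    rw [hr] at h3 ⊢
    have h3r := Nat.prime_three.dvd_of_dvd_pow h3
    exact (by norm_num : 9 ∣ 27).trans (cube_dvd h3r le_rfl)
  · exact Dvd.dvd.mul_left (nine_sq_of_cube hr h3) _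

theorem out_psl3 {F : Type} [Field F] [Fintype F] (hq : ¬ 3 ∣ Fintype.card F)
    (h9 : ¬ 9 ∣ Nat.card (Matrix.ProjectiveSpecialLinearGroup (Fin 3) F)) :
    ¬ 6 ∣ Nat.card (Cfsg.Out (Matrix.ProjectiveSpecialLinearGroup (Fin 3) F)) := by
  intro h6
  have hq1 : 1 < Fintype.card F := Fintype.one_lt_card
  have hq3 : Fintype.card F % 3 = 2 := by
    by_contra h
    exact h9 (nine_psl3 (by omega))
  obtain ⟨p, hp⟩ := CharP.exists F
  obtain ⟨f, hpp, hn⟩ := FiniteField.card F p
  have : Fact p.Prime := ⟨hpp⟩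
  obtain ⟨φ, hφ, -, hk⟩ := S2601.result (F := F) (p := p) (f := (f : ℕ)) (n := 3) f.2 hn le_rfl
  have hA : Nat.card (Multiplicative (ZMod (f : ℕ) × ZMod 2)) = (f : ℕ) * 2 := by
    change Nat.card (ZMod (f : ℕ) × ZMod 2) = _
    rw [Nat.card_prod, Nat.card_zmod, Nat.card_zmod]
  have h1 := card_of_hom φ hφ hA hk
  rw [h1] at h6
  have hg : ¬ 3 ∣ Nat.gcd 3 (Fintype.card F - 1) := by
    intro h'
    have := h'.trans (Nat.gcd_dvd_right _ _)
    omega
  have h3f := dvd_of_not_gcd (by rw [← hn]; exact hg) h6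
  have h3f' : 3 ∣ (f : ℕ) := by omega
  obtain ⟨r, hr⟩ := cube_of hn h3f'
  apply h9
  refine of_mul9 hg card_psl3 ?_
  apply Dvd.dvd.mul_left
  exact Dvd.dvd.mul_right (nine_sq_of_cube hr hq) _

theorem out_psu3 {F : Type} [Field F] [Fintype F] {q : ℕ} (hF : Fintype.card F = q ^ 2) (hq : ¬ 3 ∣ q)
    (hq2 : q ≠ 2) (h9 : ¬ 9 ∣ Nat.card (PSU 3 F q)) : ¬ 6 ∣ Nat.card (Cfsg.Out (PSU 3 F q)) := by
  intro h6
  have hq1 : 1 < q := by
    have h1 : 1 < Fintype.card F := Fintype.one_lt_card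
    rw [hF] at h1
    by_contra h
    interval_cases q <;> simp at h1
  have hq3 : q % 3 = 1 := by
    by_contra h
    exact h9 (nine_psu3 hF (by omega))
  have hq2' : IsPrimePow (q ^ 2) := hF ▸ Fintype.isPrimePow_card_of_field
  have hqp : IsPrimePow q := (isPrimePow_pow_iff (by norm_num)).1 hq2'
  obtain ⟨p, f, hpp, hf, hn⟩ := hqp
  have : Fact p.Prime := ⟨hpp.nat_prime⟩
  obtain ⟨φ, hφ, -, hk⟩ := S2603.result (K := F) (p := p) (f := f) (n := 3) hf hn.symm hF le_rfl (by tauto)
  have h1 := card_of_hom φ hφ (n := 2 * f) (Nat.card_zmod (2 * f)) hk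
  rw [h1] at h6
  have hg : ¬ 3 ∣ Nat.gcd 3 (q + 1) := by
    intro h'
    have := h'.trans (Nat.gcd_dvd_right _ _)
    omega
  have h3f := dvd_of_not_gcd hg h6
  have h3f' : 3 ∣ f := by omega
  obtain ⟨r, hr⟩ := cube_of hn.symm h3f'
  apply h9
  refine of_mul9 hg (card_psu3 hF) ?_
  apply Dvd.dvd.mul_left
  exact Dvd.dvd.mul_right (nine_sq_of_cube hr hq) _

theorem out_alt5 {M : Type u} [Group M] (e : M ≃* ↥(alternatingGroup (Fin 5))) : ¬ 6 ∣ Nat.card (Cfsg.Out M) := by
  have : Fact (Nat.Prime 5) := ⟨by norm_num⟩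
  have h5 : Fintype.card (ZMod 5) = 5 := ZMod.card 5
  obtain ⟨f⟩ := S0253.result (F := ZMod 5) h5
  rw [Cfsg.Agent.H548.Crit.card_out_congr (e.trans f.symm)]
  refine out_psl2 (by rw [h5]; norm_num) ?_
  rw [Nat.card_congr f.toEquiv]
  have h := alt_card (n := 5) le_rfl (MulEquiv.refl ↥(alternatingGroup (Fin 5)))
  intro h9
  have h2 : 9 ∣ Nat.factorial 5 := by rw [h]; exact Dvd.dvd.mul_left h9 _
  revert h2
  decide

/-- **(L1), with the classification and the table of the orders as hypotheses.** -/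
theorem out_six_of (T : OrderTable.{u}) {M : Type u} [Group M] [Finite M] (h : IsKnownSimple' M)
    (hna : ¬ ∀ a b : M, a * b = b * a) (h9 : ¬ 9 ∣ Nat.card M) : ¬ 6 ∣ Nat.card (Cfsg.Out M) := by
  have h27 : ¬ 27 ∣ Nat.card M := fun h' => h9 ((by norm_num : 9 ∣ 27).trans h')
  have hnn : ∀ {L : Type} [Group L], (M ≃* L) → ¬ 9 ∣ Nat.card L := by
    intro L _ e
    rw [← Nat.card_congr e.toEquiv]
    exact h9
  have key : ∀ (x : Grp × ℕ), x ∈ spor → x.2 % 9 = 0 → Real x.1 M → False := fun x hx h0 hr => by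
    apply h9
    rw [T.spor M x hx hr]
    exact Nat.dvd_of_mod_eq_zero h0
  have key3 : ∀ (x : Grp × ℕ), x ∈ spor → x.2 % 3 = 0 → Real x.1 M → 3 ∣ Nat.card M := fun x hx h0 hr => by
    rw [T.spor M x hx hr]
    exact Nat.dvd_of_mod_eq_zero h0
  have hkind : Lie.IsoSuzuki M ∨ Kind M := by
    by_cases h3 : 3 ∣ Nat.card M
    · exact Or.inr (kind_of_known T h hna h3 h27)
    · rcases h with h | h | h | h | h | h | h | h | h | h
      · exfalso
        have : Fact (Nat.card M).Prime := ⟨h⟩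
        have : IsCyclic M := isCyclic_of_prime_card (p := Nat.card M) rfl
        exact hna fun a b => (IsCyclic.isMulCommutative (α := M)).is_comm.comm a b
      · obtain ⟨n, hn, ⟨e⟩⟩ := h
        exact Or.inr (alt_kind hn e h27)
      · obtain ⟨F, _, _, n, hn, hn2, ⟨e⟩⟩ := h
        exact Or.inr (psl_kind hn hn2 e h27)
      · obtain ⟨F, _, _, n, hn, hn2, ⟨e⟩⟩ := h
        exact Or.inr (psp_kind hn hn2 e h27)
      · obtain ⟨F, _, _, n, q, hF, hn, hn2, ⟨e⟩⟩ := h
        exact Or.inr (psu_kind hF hn hn2 e h27)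
      · obtain ⟨F, _, _, n, hn, ho, ⟨e⟩⟩ := h
        exact absurd (oodd_false hn ho e) h27
      · obtain ⟨F, _, _, n, hn, ⟨e⟩⟩ := h
        exact absurd (oplus_false hn e) h27
      · obtain ⟨F, _, _, n, a, b, hn, hab, ⟨e⟩⟩ := h
        exact absurd (ominus_false hn hab e) h27
      · exact Or.inl (exc_three T h h3)
      · exfalso
        apply h3
        rcases h with h | h | h | h | h | h | h | h | h | h | h | h | h | h | h | h | h | h | h | h | h | h | h | h |
          h | h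
        · exact key3 (.m11, 7920) (by decide) (by norm_num) h
        · exact key3 (.m12, 95040) (by decide) (by norm_num) h
        · exact key3 (.m22, 443520) (by decide) (by norm_num) h
        · exact key3 (.m23, 10200960) (by decide) (by norm_num) h
        · exact key3 (.m24, 244823040) (by decide) (by norm_num) h
        · exact key3 (.j1, 175560) (by decide) (by norm_num) h
        · exact key3 (.j2, 604800) (by decide) (by norm_num) h
        · exact key3 (.j3, 50232960) (by decide) (by norm_num) h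
        · exact key3 (.j4, 86775571046077562880) (by decide) (by norm_num) h
        · exact key3 (.co1, 4157776806543360000) (by decide) (by norm_num) h
        · exact key3 (.co2, 42305421312000) (by decide) (by norm_num) h
        · exact key3 (.co3, 495766656000) (by decide) (by norm_num) h
        · exact key3 (.mcl, 898128000) (by decide) (by norm_num) h
        · exact key3 (.hs, 44352000) (by decide) (by norm_num) h
        · exact key3 (.suz, 448345497600) (by decide) (by norm_num) h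
        · exact key3 (.he, 4030387200) (by decide) (by norm_num) h
        · exact key3 (.ru, 145926144000) (by decide) (by norm_num) h
        · exact key3 (.on, 460815505920) (by decide) (by norm_num) h
        · exact key3 (.ly, 51765179004000000) (by decide) (by norm_num) h
        · exact key3 (.fi22, 64561751654400) (by decide) (by norm_num) h
        · exact key3 (.fi23, 4089470473293004800) (by decide) (by norm_num) h
        · exact key3 (.fi24, 1255205709190661721292800) (by decide) (by norm_num) h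
        · exact key3 (.hn, 273030912000000) (by decide) (by norm_num) h
        · exact key3 (.th, 90745943887872000) (by decide) (by norm_num) h
        · exact key3 (.b, 4154781481226426191177580544000000) (by decide) (by norm_num) h
        · exact key3 (.m, 808017424794512875886459904961710757005754368000000000) (by decide) (by norm_num) h
  rcases hkind with hsz | hkind
  · exact out_suz hsz
  rcases hkind with ⟨n, h5, h8, ⟨e⟩⟩ | ⟨F, _, _, hq, ⟨e⟩⟩ | ⟨F, _, _, hq, hq9, ⟨e⟩⟩ |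
    ⟨F, _, _, hq, ⟨e⟩⟩ | ⟨F, _, _, hq, ⟨e⟩⟩ | ⟨F, _, _, q, hF, hq, hq2, hq9, ⟨e⟩⟩ | ⟨F, _, _, q, hF, hq, ⟨e⟩⟩ |
    ⟨F, _, _, q, hF, hq, ⟨e⟩⟩ | ⟨F, _, _, hq, hq4, hq9, ⟨e⟩⟩ | hs | hs | hs | hs | hs
  · rcases Nat.lt_or_ge n 6 with h6 | h6
    · obtain rfl : n = 5 := by omega
      exact out_alt5 e
    · exfalso
      apply h9
      refine of_mul9 (by norm_num) (alt_card (by omega) e).symm ?_
      exact dvd_trans (by decide) (Nat.factorial_dvd_factorial h6)
  · rw [Cfsg.Agent.H548.Crit.card_out_congr e]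
    exact out_psl2 hq (hnn e)
  · rw [Cfsg.Agent.H548.Crit.card_out_congr e]
    exact out_psl3 hq (hnn e)
  · exact absurd (nine_psl (Or.inl rfl) (by omega)) (hnn e)
  · exact absurd (nine_psl (Or.inr rfl) (by omega)) (hnn e)
  · rw [Cfsg.Agent.H548.Crit.card_out_congr e]
    exact out_psu3 hF hq hq2 (hnn e)
  · exact absurd (nine_psu hF (Or.inl rfl) (by omega)) (hnn e)
  · exact absurd (nine_psu hF (Or.inr rfl) (by omega)) (hnn e)
  · exact absurd (nine_psp4 hq) (hnn e)
  · exact (key (.m11, 7920) (by decide) (by norm_num) hs).elim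
  · exact (key (.m22, 443520) (by decide) (by norm_num) hs).elim
  · exact (key (.m23, 10200960) (by decide) (by norm_num) hs).elim
  · exact (key (.hs, 44352000) (by decide) (by norm_num) hs).elim
  · obtain ⟨e⟩ := hs
    rw [Cfsg.Agent.H548.Crit.card_out_congr e, S2065.result]
    norm_num

end Cfsg.Agent.H385.OutSix
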