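import Cfsg.Agent.H385.PTwoB

set_option autoImplicit false
set_option linter.unusedSectionVars false

/-!
S3513, core part 11: `p = 2`, colours of 4-sets.
-/

namespace Cfsg.Agent.H385.St

open MulAction Pointwise

variable {G α : Type*} [Group G] [Finite G] [MulAction G α] [Fintype α] [DecidableEq α]

/-- orbit as a finset -/
noncomputable def orbF {G α : Type*} [Group G] [MulAction G α] [Fintype α] (K : Subgroup G)
    (a : α) : Finset α := (Set.toFinite (orbit K a)).toFinset

theorem mem_orbF {K : Subgroup G} {a b : α} : b ∈ orbF K a ↔ ∃ g ∈ K, g • a = b := by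
  rw [orbF, Set.Finite.mem_toFinset]
  constructor
  · rintro ⟨g, rfl⟩
    exact ⟨g, g.2, rfl⟩
  · rintro ⟨g, hg, rfl⟩
    exact ⟨⟨g, hg⟩, rfl⟩

theorem card_orbF (K : Subgroup G) (a : α) : (orbF K a).card = Nat.card (orbit K a) := by
  rw [orbF, ← Set.ncard_eq_toFinset_card, Nat.card_coe_set_eq]

theorem orbF_stab (K : Subgroup G) (a : α) : K ≤ stabilizer G (orbF K a) := by
  rw [le_stab]
  intro g hg b hb
  rw [mem_orbF] at hb ⊢
  obtain ⟨x, hx, rfl⟩ := hb
  exact ⟨g * x, mul_mem hg hx, mul_smul _ _ _⟩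

theorem self_mem_orbF (K : Subgroup G) (a : α) : a ∈ orbF K a :=
  mem_orbF.2 ⟨1, one_mem _, one_smul _ _⟩

theorem orbF_subset {K : Subgroup G} {D : Finset α} (hD : K ≤ stabilizer G D) {a : α}
    (ha : a ∈ D) : orbF K a ⊆ D := by
  intro b hb
  obtain ⟨g, hg, rfl⟩ := mem_orbF.1 hb
  exact le_stab.1 hD g hg a ha

theorem sdiff_stab {K : Subgroup G} {D E : Finset α} (hD : K ≤ stabilizer G D)
    (hE : K ≤ stabilizer G E) : K ≤ stabilizer G (D \ E) := by
  rw [le_stab]
  intro g hg x hx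
  rw [Finset.mem_sdiff] at hx ⊢
  exact ⟨le_stab.1 hD g hg _ hx.1, fun hm => hx.2 ((mem_of_stab (hE hg)).1 hm)⟩

/-- parity of the number of fixed points -/
theorem Hyp.parity (h : Hyp 2 G α) {P : Sylow 2 G} {D : Finset α}
    (hP : (P : Subgroup G) ≤ stabilizer G D) :
    (D ∩ Fx α (P : Subgroup G)).card = D.card % 2 := by
  have h1 := card_modEq P.2 hP
  have h2 : (D ∩ Fx α (P : Subgroup G)).card ≤ (Fx α (P : Subgroup G)).card :=
    Finset.card_le_card Finset.inter_subset_right
  have h3 := h.fx P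
  rw [Nat.ModEq] at h1
  omega

theorem Hyp.subset_of_odd (h : Hyp 2 G α) {P : Sylow 2 G} {D : Finset α}
    (hP : (P : Subgroup G) ≤ stabilizer G D) (hD : D.card % 2 = 1) :
    Fx α (P : Subgroup G) ⊆ D := by
  have h1 := h.parity hP
  have h3 := h.fx P
  have h4 : D ∩ Fx α (P : Subgroup G) = Fx α (P : Subgroup G) :=
    Finset.eq_of_subset_of_card_le Finset.inter_subset_right (by omega)
  rw [← h4]
  exact Finset.inter_subset_left

theorem Hyp.disj_of_even (h : Hyp 2 G α) {P : Sylow 2 G} {D : Finset α}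
    (hP : (P : Subgroup G) ≤ stabilizer G D) (hD : D.card % 2 = 0) :
    ∀ x ∈ D, x ∉ Fx α (P : Subgroup G) := by
  have h1 := h.parity hP
  rw [hD, Finset.card_eq_zero] at h1
  intro x hx hxF
  have : x ∈ D ∩ Fx α (P : Subgroup G) := Finset.mem_inter.2 ⟨hx, hxF⟩
  rw [h1] at this
  exact Finset.notMem_empty _ this

theorem Hyp.exists_dd4 (h : Hyp 2 G α) (hU : U1 G α) :
    ∃ dd : Set (Finset α) → Set (Finset α), ∀ (P : Sylow 2 G) (W : Finset α), W.card = 5 →
      (P : Subgroup G) ≤ stabilizer G W → ∀ u ∈ W \ Fx α (P : Subgroup G),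
      orbit G (W.erase u) = dd (orbit G (W \ Fx α (P : Subgroup G))) := by
  classical
  have key : ∀ c : Set (Finset α), ∃ d : Set (Finset α), ∀ (P : Sylow 2 G) (W : Finset α),
      W.card = 5 → (P : Subgroup G) ≤ stabilizer G W → ∀ u ∈ W \ Fx α (P : Subgroup G),
      c = orbit G (W \ Fx α (P : Subgroup G)) → orbit G (W.erase u) = d := by
    intro c
    by_cases hc : ∃ (P : Sylow 2 G) (W : Finset α) (u : α), W.card = 5 ∧
        (P : Subgroup G) ≤ stabilizer G W ∧ u ∈ W \ Fx α (P : Subgroup G) ∧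
        c = orbit G (W \ Fx α (P : Subgroup G))
    · obtain ⟨P, W, u, hW, hP, hu, hcW⟩ := hc
      refine ⟨orbit G (W.erase u), fun P' W' hW' hP' u' hu' hcW' => ?_⟩
      obtain ⟨g, hgP, hgC⟩ := transfer (sdiff_Fx_stab hP) (sdiff_Fx_stab hP')
        (hcW.symm.trans hcW')
      have hFW := h.subset_of_odd hP (by omega)
      have hFW' := h.subset_of_odd hP' (by omega)
      have hgW : g • W = W' := by
        rw [← Finset.sdiff_union_of_subset hFW, ← Finset.sdiff_union_of_subset hFW',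
          Finset.smul_finset_union, hgC, ← Fx_smul, hgP]
      have h3 : g • u ∈ W' \ Fx α (P' : Subgroup G) := by
        rw [← hgC]
        exact Finset.smul_mem_smul_finset hu
      have hq : (W' \ Fx α (P' : Subgroup G)).card = 4 := by
        rw [Finset.card_sdiff_of_subset hFW', hW']
        have := h.fx P'
        omega
      obtain ⟨x, hx, hxu⟩ := hU P' _ hq (sdiff_Fx_stab hP') _ h3 _ hu'
      have h4 : (x * g) • W = W' := by
        rw [mul_smul, hgW]
        exact hP' hx
      have h5 : (x * g) • (W.erase u) = W'.erase u' :=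
        smul_erase h4 (by rw [mul_smul, hxu])
      exact (orbit_eq_of_smul h5).symm
    · refine ⟨∅, fun P W hW hP u hu hcW => ?_⟩
      exact absurd ⟨P, W, u, hW, hP, hu, hcW⟩ hc
  choose dd hdd using key
  exact ⟨dd, fun P W hW hP u hu => hdd _ P W hW hP u hu rfl⟩

theorem Hyp.pat4 (h : Hyp 2 G α) (hU : U1 G α) (hone : ∀ C E : Finset α, C.card = 2 →
    E.card = 2 → orbit G C = orbit G E) : ∃ dd, Pat 4 G α dd := by
  obtain ⟨dd, hdd⟩ := h.exists_dd4 hU
  refine ⟨dd, by norm_num, ?_, ?_, ?_, ?_⟩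
  · intro W hW
    obtain ⟨P, hP⟩ := h.star W
    have hFW := h.subset_of_odd hP (by omega)
    obtain ⟨w, hw⟩ := Finset.card_eq_one.1 (show (Fx α (P : Subgroup G)).card = 1 by
      have := h.fx P; omega)
    refine ⟨w, hFW (by rw [hw]; simp), fun u hu huw => ?_⟩
    have h1 := hdd P W hW hP u (by rw [hw]; simp [hu, huw])
    rw [hw, Finset.sdiff_singleton_eq_erase] at h1
    exact h1
  · intro E E' hE hE'
    obtain ⟨P, hP⟩ := h.star E
    obtain ⟨P', hP'⟩ := h.star E'
    apply exists_smul_of_orbit_eq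
    apply h.j1_two P P' E E' (by omega) (by omega) hP hP'
    apply hone
    · exact h.card_sdiff (by omega) (by omega) hP
    · exact h.card_sdiff (by omega) (by omega) hP'
  · intro S z hS hz
    obtain ⟨P, hP⟩ := h.star S
    have hFS := h.subset_of_odd hP (by omega)
    have hzF : z ∉ Fx α (P : Subgroup G) := fun hm => hz (hFS hm)
    rw [mem_Fx] at hzF
    push Not at hzF
    obtain ⟨g, hg, hgz⟩ := hzF
    exact ⟨g, hP hg, hgz⟩
  · intro C hC
    obtain ⟨P, hP⟩ := h.star C
    have hCF := h.disj_of_even hP (by omega)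
    obtain ⟨w, hw⟩ := Finset.card_eq_one.1 (show (Fx α (P : Subgroup G)).card = 1 by
      have := h.fx P; omega)
    have hwF : w ∈ Fx α (P : Subgroup G) := by rw [hw]; simp
    have hwC : w ∉ C := fun hm => hCF w hm hwF
    have hs : (insert w C) \ Fx α (P : Subgroup G) = C := by
      rw [hw, Finset.sdiff_singleton_eq_erase, Finset.erase_insert hwC]
    have hst : (P : Subgroup G) ≤ stabilizer G (insert w C) := by
      rw [← Finset.singleton_union, ← hw]
      exact union_stab (Fx_stab _) hP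
    refine ⟨insert w C, by rw [Finset.card_insert_of_notMem hwC, hC], w,
      Finset.mem_insert_self _ _, Finset.erase_insert hwC, fun u hu huw => ?_⟩
    have h1 := hdd P (insert w C) (by rw [Finset.card_insert_of_notMem hwC, hC]) hst u
      (by rw [hs]; exact (Finset.mem_insert.1 hu).resolve_left huw)
    rw [hs] at h1
    exact h1

/-- invariant 6-sets -/
theorem Hyp.six (h : Hyp 2 G α) {P : Sylow 2 G} {V : Finset α}
    (hV : V.card = 6) (hP : (P : Subgroup G) ≤ stabilizer G V) :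
    ∃ O ⊆ V, O.card = 2 ∧ (P : Subgroup G) ≤ stabilizer G O ∧ (V \ O).card = 4 ∧
      (P : Subgroup G) ≤ stabilizer G (V \ O) := by
  have hVF := h.disj_of_even hP (by omega)
  obtain ⟨a, ha⟩ : V.Nonempty := by rw [← Finset.card_pos]; omega
  have hsub := orbF_subset hP ha
  have hst := orbF_stab (P : Subgroup G) a
  have hle := Finset.card_le_card hsub
  obtain ⟨n, hn⟩ := P.2.card_orbit a
  rw [← card_orbF] at hn
  have hn1 : n ≠ 0 := by
    rintro rfl
    have h1 := card_orbit_dvd P.2 (hVF a ha)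
    rw [← card_orbF, hn] at h1
    norm_num at h1
  have hcase : (orbF (P : Subgroup G) a).card = 2 ∨ (orbF (P : Subgroup G) a).card = 4 := by
    rcases n with _ | _ | _ | n
    · exact absurd rfl hn1
    · left; rw [hn]; norm_num
    · right; rw [hn]; norm_num
    · exfalso
      have : 8 ≤ 2 ^ (n + 1 + 1 + 1) := by
        rw [pow_succ, pow_succ, pow_succ]
        have := Nat.one_le_two_pow (n := n)
        omega
      omega
  rcases hcase with h2 | h4
  · refine ⟨_, hsub, h2, hst, ?_, sdiff_stab hP hst⟩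
    rw [Finset.card_sdiff_of_subset hsub]; omega
  · refine ⟨V \ orbF (P : Subgroup G) a, Finset.sdiff_subset, ?_, sdiff_stab hP hst, ?_, ?_⟩
    · rw [Finset.card_sdiff_of_subset hsub]; omega
    · rw [Finset.sdiff_sdiff_eq_self hsub]; exact h4
    · rw [Finset.sdiff_sdiff_eq_self hsub]; exact hst

theorem Hyp.one_colour_four (h : Hyp 2 G α) (hY : Y1 2 G α) (hU : U1 G α)
    (hone : ∀ C E : Finset α, C.card = 2 → E.card = 2 → orbit G C = orbit G E) {C E : Finset α}
    (hC : C.card = 4) (hE : E.card = 4) : orbit G C = orbit G E := by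
  by_contra hCE
  have h2 : ∃ c ∈ Orb G α 4, ∃ e ∈ Orb G α 4, c ≠ e :=
    ⟨_, ⟨C, hC, rfl⟩, _, ⟨E, hE, rfl⟩, hCE⟩
  obtain ⟨dd, hp⟩ := h.pat4 hU hone
  apply hCE
  refine hp.one_colour (by norm_num) ?_ hC hE
  intro V hV
  have hV6 : V.card = 6 := hV
  obtain ⟨P, hP⟩ := h.star V
  obtain ⟨O, hOV, hO2, hPO, hq4, hPq⟩ := h.six hV6 hP
  have hVF := h.disj_of_even hP (by omega)
  obtain ⟨a, b, hab, hOab⟩ := Finset.card_eq_two.1 hO2
  have haV : a ∈ V := hOV (by rw [hOab]; simp)
  have hbV : b ∈ V := hOV (by rw [hOab]; simp)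
  -- patterns
  have hpat : ∀ v ∈ V, ∃ w ∈ V.erase v, ∀ u ∈ V.erase v, u ≠ w →
      orbit G ((V.erase v).erase u) = dd (orbit G ((V.erase v).erase w)) := by
    intro v hv
    exact hp.pattern _ (by rw [Finset.card_erase_of_mem hv, hV6])
  have hmem4 : ∀ v ∈ V, ∀ w ∈ V.erase v, orbit G ((V.erase v).erase w) ∈ Orb G α 4 := by
    intro v hv w hw
    exact ⟨_, by rw [Finset.card_erase_of_mem hw, Finset.card_erase_of_mem hv, hV6], rfl⟩
  have hFT := hY P (Fx α (P : Subgroup G) ∪ O) (h.card_one hO2 hPO)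
    (union_stab (Fx_stab _) hPO)
  -- the special vertex for a point of `O`
  have hspec : ∀ x y : α, O = {x, y} → x ≠ y → ∀ u ∈ V.erase x, u ≠ y →
      orbit G ((V.erase x).erase u) = dd (orbit G ((V.erase x).erase y)) := by
    intro x y hOxy hxy u hu huy
    have hxV : x ∈ V := hOV (by rw [hOxy]; simp)
    obtain ⟨w, hw, hwall⟩ := hpat x hxV
    have hwy : w = y := by
      have hwT : w ∈ Fx α ((P : Subgroup G) ⊓ fixingSubgroup G
          ((Fx α (P : Subgroup G) ∪ O : Finset α) : Set α) : Subgroup G) := by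
        rw [mem_Fx]
        intro g hg
        by_contra hgw
        have hgx : g • x = x := mem_fixing.1 hg.2 x (Finset.mem_union_right _ (by rw [hOxy]; simp))
        have hgV : g • V = V := hP hg.1
        have h1 : g • (V.erase x) = V.erase x := smul_erase hgV hgx
        have h3 : g • w ∈ V.erase x := by
          rw [← h1]
          exact Finset.smul_mem_smul_finset hw
        have h4 := hwall _ h3 hgw
        have h5 : g • ((V.erase x).erase w) = (V.erase x).erase (g • w) := smul_erase h1 rfl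
        rw [← orbit_eq_of_smul h5] at h4
        exact hp.ne h2 (hmem4 x hxV w hw) h4.symm
      rw [hFT, Finset.mem_union] at hwT
      have hwV : w ∈ V := Finset.mem_of_mem_erase hw
      have hwO := hwT.resolve_left (hVF w hwV)
      rw [hOxy, Finset.mem_insert, Finset.mem_singleton] at hwO
      exact hwO.resolve_left (Finset.ne_of_mem_erase hw)
    rw [← hwy]
    exact hwall u hu (by rw [hwy]; exact huy)
  set σ := orbit G ((V.erase a).erase b) with hσ
  have hσ' : orbit G ((V.erase b).erase a) = σ := by rw [hσ, Finset.erase_right_comm]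
  have hσ4 : σ ∈ Orb G α 4 := hmem4 a haV b (Finset.mem_erase.2 ⟨hab.symm, hbV⟩)
  have hsa := hspec a b hOab hab
  have hsb := hspec b a (by rw [hOab, Finset.pair_comm]) hab.symm
  -- every vertex has special colour `σ`
  have hall : ∀ v ∈ V, Spec G dd (V.erase v) σ := by
    intro v hv
    by_cases hva : v = a
    · rw [hva]
      exact ⟨b, Finset.mem_erase.2 ⟨hab.symm, hbV⟩, rfl, hsa⟩
    by_cases hvb : v = b
    · rw [hvb]
      refine ⟨a, Finset.mem_erase.2 ⟨hab, haV⟩, hσ', ?_⟩
      intro u hu hua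
      rw [hsb u hu hua, hσ']
    obtain ⟨w, hw, hwall⟩ := hpat v hv
    have e1 : orbit G ((V.erase v).erase a) = dd σ := by
      rw [Finset.erase_right_comm]
      exact hsa v (Finset.mem_erase.2 ⟨hva, hv⟩) hvb
    have e2 : orbit G ((V.erase v).erase b) = dd σ := by
      rw [Finset.erase_right_comm, hsb v (Finset.mem_erase.2 ⟨hvb, hv⟩) hva, hσ']
    have e3 : dd (orbit G ((V.erase v).erase w)) = dd σ := by
      by_cases hwa : w = a
      · rw [← e2]
        exact (hwall b (Finset.mem_erase.2 ⟨fun h => hvb h.symm, hbV⟩)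
          (by rw [hwa]; exact hab.symm)).symm
      · rw [← e1]
        exact (hwall a (Finset.mem_erase.2 ⟨fun h => hva h.symm, haV⟩)
          (fun h => hwa h.symm)).symm
    have e4 : orbit G ((V.erase v).erase w) = σ := hp.injOn.2 (hmem4 v hv w hw) hσ4 e3
    refine ⟨w, hw, e4, ?_⟩
    intro u hu huw
    rw [hwall u hu huw, e4]
  intro u hu v hv c hc hs
  have h1 := hp.spec_unique (by norm_num) (by rw [Finset.card_erase_of_mem hu, hV6]) hc hσ4 hs
    (hall u hu)
  rw [h1]
  exact hall v hv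

/-- uniqueness of the orbit of size 2 -/
theorem Hyp.two_orbit_unique (hU : U1 G α) {P : Sylow 2 G} {O O' : Finset α} (hO : O.card = 2)
    (hO' : O'.card = 2) (hPO : (P : Subgroup G) ≤ stabilizer G O)
    (hPO' : (P : Subgroup G) ≤ stabilizer G O') (hF : ∀ x ∈ O, x ∉ Fx α (P : Subgroup G)) :
    O = O' := by
  by_contra hne
  have hdis : Disjoint O O' := by
    rw [Finset.disjoint_left]
    intro a ha ha'
    apply hne
    apply Finset.eq_of_subset_of_card_le _ (by omega)
    intro b hb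
    obtain ⟨g, hg, rfl⟩ := trans_of_card P.2 hPO hO.le ha (hF a ha) b hb
    exact le_stab.1 hPO' g hg a ha'
  obtain ⟨a, ha⟩ : O.Nonempty := by rw [← Finset.card_pos]; omega
  obtain ⟨b, hb⟩ : O'.Nonempty := by rw [← Finset.card_pos]; omega
  obtain ⟨g, hg, hgab⟩ := hU P (O ∪ O') (by rw [Finset.card_union_of_disjoint hdis, hO, hO'])
    (union_stab hPO hPO') a (Finset.mem_union_left _ ha) b (Finset.mem_union_right _ hb)
  have h1 := le_stab.1 hPO g hg a ha
  rw [hgab] at h1
  exact Finset.disjoint_left.1 hdis h1 hb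

theorem Hyp.homog_seven (h : Hyp 2 G α) (hU : U1 G α)
    (h4 : ∀ C E : Finset α, C.card = 4 → E.card = 4 → orbit G C = orbit G E)
    {Z Z' : Finset α} (hZ : Z.card = 7) (hZ' : Z'.card = 7) : ∃ g : G, g • Z = Z' := by
  have key : ∀ (Z : Finset α), Z.card = 7 → ∃ (P : Sylow 2 G) (O q : Finset α), O.card = 2 ∧
      q.card = 4 ∧ (P : Subgroup G) ≤ stabilizer G O ∧ (P : Subgroup G) ≤ stabilizer G q ∧
      (∀ x ∈ O, x ∉ Fx α (P : Subgroup G)) ∧ Z = Fx α (P : Subgroup G) ∪ (O ∪ q) := by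
    intro Z hZ
    obtain ⟨P, hP⟩ := h.star Z
    have hFZ := h.subset_of_odd hP (by omega)
    have hPV := sdiff_Fx_stab hP
    have hV : (Z \ Fx α (P : Subgroup G)).card = 6 := by
      rw [Finset.card_sdiff_of_subset hFZ]
      have := h.fx P
      omega
    obtain ⟨O, hOV, hO2, hPO, hq4, hPq⟩ := h.six hV hPV
    refine ⟨P, O, _, hO2, hq4, hPO, hPq, ?_, ?_⟩
    · intro x hx
      exact (Finset.mem_sdiff.1 (hOV hx)).2
    · rw [Finset.union_sdiff_of_subset hOV, Finset.union_sdiff_of_subset hFZ]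
  obtain ⟨P, O, q, hO, hq, hPO, hPq, hOF, hZe⟩ := key Z hZ
  obtain ⟨P', O', q', hO', hq', hPO', hPq', hOF', hZe'⟩ := key Z' hZ'
  obtain ⟨g, hgP, hgq⟩ := transfer hPq hPq' (h4 q q' hq hq')
  have h1 : g • O = O' := by
    have h2 := stab_smul g hPO
    rw [hgP] at h2
    refine (Hyp.two_orbit_unique hU hO' (by rw [Finset.card_smul_finset, hO]) hPO' h2 hOF').symm
  refine ⟨g, ?_⟩
  rw [hZe, hZe', Finset.smul_finset_union, Finset.smul_finset_union, h1, hgq, ← Fx_smul, hgP]

theorem Hyp.homog_five (h : Hyp 2 G α)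
    (h4 : ∀ C E : Finset α, C.card = 4 → E.card = 4 → orbit G C = orbit G E)
    {Z Z' : Finset α} (hZ : Z.card = 5) (hZ' : Z'.card = 5) : ∃ g : G, g • Z = Z' := by
  obtain ⟨P, hP⟩ := h.star Z
  obtain ⟨P', hP'⟩ := h.star Z'
  have hFZ := h.subset_of_odd hP (by omega)
  have hFZ' := h.subset_of_odd hP' (by omega)
  have hc : (Z \ Fx α (P : Subgroup G)).card = 4 := by
    rw [Finset.card_sdiff_of_subset hFZ]
    have := h.fx P
    omega
  have hc' : (Z' \ Fx α (P' : Subgroup G)).card = 4 := by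
    rw [Finset.card_sdiff_of_subset hFZ']
    have := h.fx P'
    omega
  obtain ⟨g, hgP, hgq⟩ := transfer (sdiff_Fx_stab hP) (sdiff_Fx_stab hP') (h4 _ _ hc hc')
  refine ⟨g, ?_⟩
  rw [← Finset.sdiff_union_of_subset hFZ, ← Finset.sdiff_union_of_subset hFZ',
    Finset.smul_finset_union, hgq, ← Fx_smul, hgP]

end Cfsg.Agent.H385.St
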