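import Cfsg.Agent.H385.Two
import Cfsg.Agent.PermutationGroups.Gleason

set_option autoImplicit false
set_option linter.unusedSectionVars false

/-!
S3513, core part 7: sections `N_G(R)` acting on the fixed points of a `p`-subgroup `R`.
-/

namespace Cfsg.Agent.H385.St

open MulAction Pointwise

variable {G α : Type*} [Group G] [Finite G] [MulAction G α] [Fintype α] [DecidableEq α] {p : ℕ}
  [Fact p.Prime]

theorem card_subgroupOf' {H K : Subgroup G} (h : H ≤ K) :
    Nat.card (H.subgroupOf K) = Nat.card H :=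
  Nat.card_congr (Subgroup.subgroupOfEquivOfLe h).toEquiv

theorem card_orbit_mul (P : Subgroup G) (a : α) :
    Nat.card (orbit P a) * Nat.card (P ⊓ stabilizer G a : Subgroup G) = Nat.card P := by
  have h1 : stabilizer P a = (stabilizer G a).subgroupOf P := by
    ext g
    rfl
  have h2 : Nat.card (stabilizer P a) = Nat.card (P ⊓ stabilizer G a : Subgroup G) := by
    rw [h1, ← card_subgroupOf' (inf_le_left : P ⊓ stabilizer G a ≤ P)]
    congr 1
    rw [Subgroup.inf_subgroupOf_left]
  have h3 := (stabilizer P a).card_mul_index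
  rw [index_stabilizer, h2] at h3
  rw [Nat.card_coe_set_eq, mul_comm]
  exact h3

theorem sylow_card_eq (P P' : Sylow p G) :
    Nat.card (P : Subgroup G) = Nat.card (P' : Subgroup G) := by
  rw [P.card_eq_multiplicity, P'.card_eq_multiplicity]

theorem mem_fixing {D : Finset α} {g : G} :
    g ∈ fixingSubgroup G (D : Set α) ↔ ∀ a ∈ D, g • a = a := by
  rw [mem_fixingSubgroup_iff]
  rfl

theorem le_fixing {D : Finset α} {K : Subgroup G} :
    K ≤ fixingSubgroup G (D : Set α) ↔ D ⊆ Fx α K := by
  constructor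
  · intro h a ha
    rw [mem_Fx]
    exact fun g hg => mem_fixing.1 (h hg) a ha
  · intro h g hg
    rw [mem_fixing]
    exact fun a ha => mem_Fx.1 (h ha) g hg

theorem fixing_le_stab {D : Finset α} : fixingSubgroup G (D : Set α) ≤ stabilizer G D := by
  intro g hg
  rw [mem_stab]
  intro a ha
  rw [mem_fixing.1 hg a ha]
  exact ha

/-- a `p`-subgroup fixing at least `p` points has order at most `|P| / p` -/
theorem Hyp.card_dvd (h : Hyp p G α) {D : Finset α} (hD : p ≤ D.card) {T : Subgroup G}
    (hT : IsPGroup p T) (hTD : T ≤ fixingSubgroup G (D : Set α)) (P : Sylow p G) :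
    p * Nat.card T ∣ Nat.card (P : Subgroup G) := by
  obtain ⟨P', hP'⟩ := hT.exists_le_sylow
  rw [sylow_card_eq P P']
  have hne : T ≠ P' := by
    intro he
    have h1 : D ⊆ Fx α (P' : Subgroup G) := le_fixing.1 (he ▸ hTD)
    exact h.not_subset hD P' h1
  obtain ⟨k, hk⟩ := IsPGroup.iff_card.1 hT
  obtain ⟨m, hm⟩ := IsPGroup.iff_card.1 P'.2
  have hp1 := (Fact.out : p.Prime).one_lt
  have h1 : Nat.card T ≤ Nat.card (P' : Subgroup G) := Subgroup.card_le_of_le hP'
  have h2 : Nat.card T ≠ Nat.card (P' : Subgroup G) := by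
    intro he
    exact hne (Subgroup.eq_of_le_of_card_ge hP' he.ge)
  have h3 : k < m := by
    rw [hk, hm] at h1 h2
    exact (Nat.pow_lt_pow_iff_right hp1).1 (lt_of_le_of_ne h1 h2)
  rw [hk, hm, ← pow_succ']
  exact pow_dvd_pow _ h3

/-- Sylow's theorem in the pointwise stabiliser of a set of at least `p` points. -/
theorem Hyp.conj_fix (h : Hyp p G α) {D : Finset α} (hD : p ≤ D.card) {R T : Subgroup G}
    (hR : IsPGroup p R) (hT : IsPGroup p T) (hRD : R ≤ fixingSubgroup G (D : Set α))
    (hTD : T ≤ fixingSubgroup G (D : Set α)) (P : Sylow p G)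
    (hc : p * Nat.card T = Nat.card (P : Subgroup G)) :
    ∃ g ∈ fixingSubgroup G (D : Set α), ∀ r ∈ R, g⁻¹ * r * g ∈ T := by
  set H := fixingSubgroup G (D : Set α) with hH
  have hR' : IsPGroup p (R.subgroupOf H) := hR.comap_of_injective _ H.subtype_injective
  have hT' : IsPGroup p (T.subgroupOf H) := hT.comap_of_injective _ H.subtype_injective
  obtain ⟨Q, hQ⟩ := hR'.exists_le_sylow
  obtain ⟨Q', hQ'⟩ := hT'.exists_le_sylow
  have hp0 := (Fact.out : p.Prime).pos
  have hQT : T.subgroupOf H = Q' := by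
    apply Subgroup.eq_of_le_of_card_ge hQ'
    have h1 : IsPGroup p ((Q' : Subgroup H).map H.subtype) := Q'.2.map _
    have h2 := h.card_dvd hD h1 (Subgroup.map_subtype_le _) P
    rw [Subgroup.card_map_of_injective H.subtype_injective, ← hc] at h2
    have h3 := Nat.le_of_dvd (Nat.mul_pos hp0 Nat.card_pos) h2
    rw [card_subgroupOf' hTD]
    exact Nat.le_of_mul_le_mul_left h3 hp0
  obtain ⟨x, hx⟩ := exists_smul_eq H Q' Q
  refine ⟨x, x.2, fun r hr => ?_⟩
  have h1 : (⟨r, hRD hr⟩ : H) ∈ (Q : Subgroup H) := hQ (Subgroup.mem_subgroupOf.2 hr)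
  rw [← hx, Sylow.coe_subgroup_smul] at h1
  have h2 := Subgroup.mem_pointwise_smul_iff_inv_smul_mem.1 h1
  rw [← hQT, Subgroup.mem_subgroupOf] at h2
  simpa using h2

/-- `P ∩ G_(D)` for a `P`-invariant `(2p-1)`-set `D`. -/
theorem Hyp.base (h : Hyp p G α) {D : Finset α} (hD : D.card + 1 = 2 * p) {P : Sylow p G}
    (hP : (P : Subgroup G) ≤ stabilizer G D) :
    p * Nat.card ((P : Subgroup G) ⊓ fixingSubgroup G (D : Set α) : Subgroup G) =
      Nat.card (P : Subgroup G) := by
  have hp2 := (Fact.out : p.Prime).two_le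
  have hc := h.card_sdiff (by omega) (by omega) hP
  obtain ⟨a, ha⟩ : (D \ Fx α (P : Subgroup G)).Nonempty := by rw [← Finset.card_pos]; omega
  have haD : a ∈ D := (Finset.mem_sdiff.1 ha).1
  have haF : a ∉ Fx α (P : Subgroup G) := (Finset.mem_sdiff.1 ha).2
  have h1 : (P : Subgroup G) ⊓ fixingSubgroup G (D : Set α) =
      (P : Subgroup G) ⊓ stabilizer G a := by
    apply le_antisymm
    · intro g hg
      exact ⟨hg.1, mem_fixing.1 hg.2 a haD⟩
    · have hst : ((P : Subgroup G) ⊓ stabilizer G a : Subgroup G) ≤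
          stabilizer G ((D \ Fx α (P : Subgroup G)).erase a) := by
        rw [le_stab]
        intro g hg b hb
        rw [Finset.mem_erase] at hb ⊢
        refine ⟨fun hba => hb.1 ?_, le_stab.1 (sdiff_Fx_stab hP) g hg.1 b hb.2⟩
        have h2 : g • a = a := hg.2
        rw [← h2] at hba
        exact smul_left_cancel g hba
      have h3 := subset_Fx_of_card_lt
        (P.2.to_le (inf_le_left : (P : Subgroup G) ⊓ stabilizer G a ≤ P)) hst
        (by rw [Finset.card_erase_of_mem ha]; omega)
      intro g hg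
      refine Subgroup.mem_inf.2 ⟨hg.1, ?_⟩
      rw [mem_fixing]
      intro b hb
      by_cases hbF : b ∈ Fx α (P : Subgroup G)
      · exact mem_Fx.1 hbF g hg.1
      · by_cases hba : b = a
        · rw [hba]; exact hg.2
        · exact mem_Fx.1 (h3 (Finset.mem_erase.2 ⟨hba, Finset.mem_sdiff.2 ⟨hb, hbF⟩⟩)) g hg
  have h2 : Nat.card (orbit (P : Subgroup G) a) = p := by
    apply le_antisymm
    · have h3 := orbit_subset (sdiff_Fx_stab hP) ha
      have h4 := Set.ncard_le_ncard h3 (Finset.finite_toSet _)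
      rw [Set.ncard_coe_finset] at h4
      rw [Nat.card_coe_set_eq]
      exact h4.trans hc.le
    · have h3 := card_orbit_dvd P.2 haF
      have : Nonempty (orbit (P : Subgroup G) a) := ⟨⟨a, mem_orbit_self a⟩⟩
      exact Nat.le_of_dvd Nat.card_pos h3
  rw [h1]
  have h3 := card_orbit_mul (P : Subgroup G) a
  rw [h2] at h3
  exact h3

theorem inf_fixing_normal {P : Subgroup G} {D : Finset α} (hP : P ≤ stabilizer G D) :
    P ≤ Subgroup.normalizer ((P ⊓ fixingSubgroup G (D : Set α) : Subgroup G) : Set G) := by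
  have key : ∀ g ∈ P, ∀ r ∈ P ⊓ fixingSubgroup G (D : Set α),
      g * r * g⁻¹ ∈ P ⊓ fixingSubgroup G (D : Set α) := by
    intro g hg r hr
    refine Subgroup.mem_inf.2 ⟨mul_mem (mul_mem hg hr.1) (inv_mem hg), ?_⟩
    rw [mem_fixing]
    intro a ha
    have h1 : g⁻¹ • a ∈ D := le_stab.1 hP g⁻¹ (inv_mem hg) a ha
    rw [mul_smul, mul_smul, mem_fixing.1 hr.2 _ h1, smul_inv_smul]
  intro g hg
  rw [Subgroup.mem_normalizer_iff]
  intro r
  constructor
  · exact key g hg r
  · intro hr
    have := key g⁻¹ (inv_mem hg) _ hr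
    rw [inv_inv] at this
    have e : g⁻¹ * (g * r * g⁻¹) * g = r := by group
    rwa [e] at this

/-- If a maximal `p`-subgroup `R` of pointwise stabilisers fixes `E` (`|E| ≥ p`) then every Sylow
subgroup `P ≥ R` stabilising `E` normalises `R`, and `R = P ∩ G_(E)`. -/
theorem Hyp.eq_inf (h : Hyp p G α) {E : Finset α} (hE : p ≤ E.card) {R : Subgroup G}
    {P : Sylow p G} (hc : p * Nat.card R = Nat.card (P : Subgroup G)) (hRP : R ≤ P)
    (hRE : R ≤ fixingSubgroup G (E : Set α)) :
    R = (P : Subgroup G) ⊓ fixingSubgroup G (E : Set α) := by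
  apply Subgroup.eq_of_le_of_card_ge (le_inf hRP hRE)
  have h1 := h.card_dvd hE (P.2.to_le
    (inf_le_left : (P : Subgroup G) ⊓ fixingSubgroup G (E : Set α) ≤ P)) inf_le_right P
  have hp0 := (Fact.out : p.Prime).pos
  rw [← hc] at h1
  exact Nat.le_of_mul_le_mul_left (Nat.le_of_dvd (Nat.mul_pos hp0 Nat.card_pos) h1) hp0

/-! ### The section -/

/-- The fixed points of `R` with the action of its normaliser. -/
def secY (α : Type*) {G : Type*} [Group G] [MulAction G α] (R : Subgroup G) :
    SubMulAction (Subgroup.normalizer (R : Set G)) α where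
  carrier := {a | ∀ r ∈ R, r • a = a}
  smul_mem' := by
    intro g a ha r hr
    have h1 : (g : G)⁻¹ * r * g ∈ R := (Subgroup.mem_normalizer_iff''.1 g.2 r).1 hr
    have h2 := ha _ h1
    change r • (g : G) • a = (g : G) • a
    rw [mul_smul, mul_smul, inv_smul_eq_iff] at h2
    exact h2

theorem mem_secY {R : Subgroup G} {a : α} : a ∈ secY α R ↔ a ∈ Fx α R := by
  rw [mem_Fx]
  rfl

theorem card_secY (R : Subgroup G) : Nat.card (secY α R) = (Fx α R).card := by
  rw [← Set.ncard_coe_finset, ← Nat.card_coe_set_eq]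
  exact Nat.card_congr (Equiv.subtypeEquivRight (fun a => mem_secY))

/-- the finset in `α` of a set of points of the section -/
noncomputable def toF {R : Subgroup G} (s : Set (secY α R)) : Finset α :=
  (Set.toFinite ((fun x : secY α R => (x : α)) '' s)).toFinset

theorem mem_toF {R : Subgroup G} {s : Set (secY α R)} {a : α} :
    a ∈ toF s ↔ ∃ x ∈ s, (x : α) = a := by
  rw [toF, Set.Finite.mem_toFinset]
  rfl

theorem card_toF {R : Subgroup G} (s : Set (secY α R)) : (toF s).card = s.ncard := by
  rw [toF, ← Set.ncard_eq_toFinset_card, Set.ncard_image_of_injective _ Subtype.coe_injective]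

theorem toF_subset {R : Subgroup G} (s : Set (secY α R)) : toF s ⊆ Fx α R := by
  intro a ha
  obtain ⟨x, _, rfl⟩ := mem_toF.1 ha
  exact mem_secY.1 x.2

/-- Witt's lemma. -/
theorem Hyp.witt (h : Hyp p G α) {k : ℕ} (hk : p ≤ k) (ht : IsMultiplyPretransitive G α k)
    {R : Subgroup G} (hR : IsPGroup p R) (P : Sylow p G)
    (hc : p * Nat.card R = Nat.card (P : Subgroup G)) :
    IsMultiplyPretransitive (Subgroup.normalizer (R : Set G)) (secY α R) k := by
  refine ⟨fun x y => ?_⟩
  obtain ⟨g, hg⟩ := ht.exists_smul_eq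
    (x.trans (Function.Embedding.subtype _)) (y.trans (Function.Embedding.subtype _))
  have hgx : ∀ i, g • ((x i : secY α R) : α) = ((y i : secY α R) : α) := fun i =>
    DFunLike.congr_fun hg i
  set D : Finset α := Finset.univ.map (y.trans (Function.Embedding.subtype _)) with hD
  have hDc : D.card = k := by rw [hD, Finset.card_map, Finset.card_univ, Fintype.card_fin]
  have hDm : ∀ a, a ∈ D ↔ ∃ i, ((y i : secY α R) : α) = a := by
    intro a
    simp [hD]
  have hRD : R ≤ fixingSubgroup G (D : Set α) := by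
    rw [le_fixing]
    intro a ha
    obtain ⟨i, rfl⟩ := (hDm a).1 ha
    exact mem_secY.1 (y i).2
  set R' : Subgroup G := R.map (MulAut.conj g).toMonoidHom with hR'
  have hR'p : IsPGroup p R' := hR.map _
  have hR'D : R' ≤ fixingSubgroup G (D : Set α) := by
    rintro _ ⟨r, hr, rfl⟩
    rw [mem_fixing]
    intro a ha
    obtain ⟨i, rfl⟩ := (hDm a).1 ha
    rw [← hgx]
    change (g * r * g⁻¹) • g • _ = g • _
    rw [← mul_smul, inv_mul_cancel_right, mul_smul]
    congr 1
    exact (x i).2 r hr
  obtain ⟨z, hz, hzR⟩ := h.conj_fix (by omega) hR'p hR hR'D hRD P hc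
  have hx : z⁻¹ * g ∈ Subgroup.normalizer (R : Set G) := by
    have hle : ∀ r ∈ R, (z⁻¹ * g) * r * (z⁻¹ * g)⁻¹ ∈ R := by
      intro r hr
      have := hzR (g * r * g⁻¹) ⟨r, hr, rfl⟩
      have e : z⁻¹ * (g * r * g⁻¹) * z = (z⁻¹ * g) * r * (z⁻¹ * g)⁻¹ := by group
      rwa [e] at this
    rw [Subgroup.mem_normalizer_iff]
    intro r
    refine ⟨hle r, fun hr => ?_⟩
    have h1 : R.map (MulAut.conj (z⁻¹ * g)).toMonoidHom = R := by
      apply Subgroup.eq_of_le_of_card_ge
      · rintro _ ⟨r, hr, rfl⟩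
        exact hle r hr
      · rw [Subgroup.card_map_of_injective (MulAut.conj (z⁻¹ * g)).injective]
    rw [← h1] at hr
    obtain ⟨r', hr', he⟩ := hr
    have : r' = r := (MulAut.conj (z⁻¹ * g)).injective he
    rwa [← this]
  refine ⟨⟨z⁻¹ * g, hx⟩, ?_⟩
  ext i
  change (z⁻¹ * g) • ((x i : secY α R) : α) = ((y i : secY α R) : α)
  rw [mul_smul, hgx, inv_smul_eq_iff]
  exact (mem_fixing.1 hz _ ((hDm _).2 ⟨i, rfl⟩)).symm

/-- Property `Y1`: `P ∩ G_(D)` has exactly the fixed points `D`, `|D| = 2p - 1`. -/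
def Y1 (p : ℕ) (G α : Type*) [Group G] [MulAction G α] [Fintype α] [DecidableEq α] : Prop :=
  ∀ (P : Sylow p G) (D : Finset α), D.card + 1 = 2 * p → (P : Subgroup G) ≤ stabilizer G D →
    Fx α ((P : Subgroup G) ⊓ fixingSubgroup G (D : Set α) : Subgroup G) = D

theorem Hyp.gleason_one (h : Hyp p G α) (hY : Y1 p G α) (hn : 2 * p ≤ Fintype.card α) :
    IsMultiplyPretransitive G α (2 * p - 1) := by
  have hp2 := (Fact.out : p.Prime).two_le
  have := PermutationGroups.Gleason.gleason (k := 2 * p - 2) (G := G) (α := α)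
    (Fact.out : p.Prime) (by rw [Nat.card_eq_fintype_card]; omega) (by
      intro s hs
      set D : Finset α := (Set.toFinite s).toFinset with hD
      have hDc : D.card = 2 * p - 1 := by
        rw [hD, ← Set.ncard_eq_toFinset_card, hs]
        omega
      obtain ⟨P, hP⟩ := h.star D
      refine ⟨(P : Subgroup G) ⊓ fixingSubgroup G (D : Set α), P.2.to_le inf_le_left, ?_⟩
      have h1 := hY P D (by omega) hP
      ext a
      have h2 : a ∈ D ↔ a ∈ s := by rw [hD, Set.Finite.mem_toFinset]
      rw [← h2]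
      conv_rhs => rw [← h1]
      rw [mem_Fx]
      constructor
      · intro h3 g hg
        exact h3 ⟨g, hg⟩
      · intro h3 g
        exact h3 g g.2)
  rwa [show 2 * p - 2 + 1 = 2 * p - 1 by omega] at this

theorem normal_of_card {R T : Subgroup G} (hRT : R ≤ T) (hT : IsPGroup p T)
    (hc : p * Nat.card R = Nat.card T) : T ≤ Subgroup.normalizer (R : Set G) := by
  have hp := (Fact.out : p.Prime)
  have hidx : (R.subgroupOf T).index = p := by
    have h1 := (R.subgroupOf T).card_mul_index
    rw [card_subgroupOf' hRT, ← hc, mul_comm] at h1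
    exact Nat.eq_of_mul_eq_mul_right Nat.card_pos h1
  have hnorm : (R.subgroupOf T).Normal := by
    apply Subgroup.normal_of_index_eq_minFac_card
    rw [hidx]
    obtain ⟨k, hk⟩ := IsPGroup.iff_card.1 hT
    rw [hk]
    rcases k with _ | k
    · exfalso
      rw [pow_zero] at hk
      rw [hk] at hc
      have := Nat.eq_one_of_mul_eq_one_right hc
      exact hp.one_lt.ne' this
    · rw [Nat.pow_minFac (Nat.succ_ne_zero k), hp.minFac_eq]
  have key : ∀ t ∈ T, ∀ r ∈ R, t * r * t⁻¹ ∈ R := by
    intro t ht r hr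
    have := hnorm.conj_mem ⟨r, hRT hr⟩ (Subgroup.mem_subgroupOf.2 hr) ⟨t, ht⟩
    exact Subgroup.mem_subgroupOf.1 this
  intro t ht
  rw [Subgroup.mem_normalizer_iff]
  intro r
  refine ⟨key t ht r, fun h1 => ?_⟩
  have := key t⁻¹ (inv_mem ht) _ h1
  have e : t⁻¹ * (t * r * t⁻¹) * t⁻¹⁻¹ = r := by group
  rwa [e] at this

/-- Gleason's lemma in the section of a group `R` with `|P : R| = p²`. -/
theorem Hyp.gleason_two (h : Hyp p G α) (hY : Y1 p G α) {R : Subgroup G} (hR : IsPGroup p R)
    (P : Sylow p G) (hc : p * (p * Nat.card R) = Nat.card (P : Subgroup G))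
    (hn : 2 * p ≤ (Fx α R).card) :
    IsMultiplyPretransitive (Subgroup.normalizer (R : Set G)) (secY α R) (2 * p - 1) := by
  have hp2 := (Fact.out : p.Prime).two_le
  have hp0 := (Fact.out : p.Prime).pos
  have := PermutationGroups.Gleason.gleason (k := 2 * p - 2)
    (G := Subgroup.normalizer (R : Set G)) (α := secY α R)
    (Fact.out : p.Prime) (by rw [card_secY]; omega) (by
      intro s hs
      set D : Finset α := toF s with hD
      have hDc : D.card = 2 * p - 1 := by
        rw [hD, card_toF, hs]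
        omega
      obtain ⟨P', hP'⟩ := h.star D
      have h1 := hY P' D (by omega) hP'
      have h2 := h.base (by omega) hP'
      set T₀ := (P' : Subgroup G) ⊓ fixingSubgroup G (D : Set α) with hT₀
      have hT₀p : IsPGroup p T₀ := P'.2.to_le inf_le_left
      have hRD : R ≤ fixingSubgroup G (D : Set α) := by
        rw [le_fixing]
        exact toF_subset s
      obtain ⟨g, hg, hgR⟩ := h.conj_fix (by omega) hR hT₀p hRD inf_le_right P' h2
      set T : Subgroup G := T₀.map (MulAut.conj g).toMonoidHom with hT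
      have hTp : IsPGroup p T := hT₀p.map _
      have hRT : R ≤ T := by
        intro r hr
        refine ⟨g⁻¹ * r * g, hgR r hr, ?_⟩
        change g * (g⁻¹ * r * g) * g⁻¹ = r
        group
      have hTc : Nat.card T = Nat.card T₀ := by
        rw [hT, Subgroup.card_map_of_injective (MulAut.conj g).injective]
      have hTN : T ≤ Subgroup.normalizer (R : Set G) := by
        apply normal_of_card hRT hTp
        rw [hTc]
        rw [sylow_card_eq P P', ← h2] at hc
        exact Nat.eq_of_mul_eq_mul_left hp0 hc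
      have hFT : ∀ a, a ∈ Fx α T ↔ a ∈ D := by
        intro a
        constructor
        · intro ha
          have h3 : g⁻¹ • a ∈ Fx α T₀ := by
            rw [mem_Fx] at ha ⊢
            intro t ht
            have h4 := ha (g * t * g⁻¹) ⟨t, ht, rfl⟩
            rw [mul_smul, mul_smul] at h4
            rw [eq_inv_smul_iff, h4]
          rw [h1] at h3
          have h4 := mem_fixing.1 (inv_mem hg) _ h3
          have h5 := mem_fixing.1 hg _ h3
          rw [smul_inv_smul] at h5
          rw [h5]
          exact h3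
        · intro ha
          rw [mem_Fx]
          rintro _ ⟨t, ht, rfl⟩
          change (g * t * g⁻¹) • a = a
          rw [mul_smul, mul_smul, mem_fixing.1 (inv_mem hg) a ha, mem_fixing.1 ht.2 a ha,
            mem_fixing.1 hg a ha]
      refine ⟨T.subgroupOf _, hTp.comap_of_injective _ (Subgroup.subtype_injective _), ?_⟩
      ext ⟨a, ha⟩
      have h3 : a ∈ D ↔ (⟨a, ha⟩ : secY α R) ∈ s := by
        rw [hD, mem_toF]
        constructor
        · rintro ⟨x, hx, hxa⟩
          have : x = ⟨a, ha⟩ := Subtype.ext hxa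
          rwa [← this]
        · intro hs
          exact ⟨_, hs, rfl⟩
      rw [← h3, ← hFT, mem_Fx]
      constructor
      · intro h4 t ht
        exact congrArg Subtype.val (h4 ⟨⟨t, hTN ht⟩, ht⟩)
      · intro h4 t
        exact Subtype.ext (h4 _ t.2))
  rwa [show 2 * p - 2 + 1 = 2 * p - 1 by omega] at this

/-! ### The permutation group of the section -/

/-- The permutation group induced by `N_G(R)` on the fixed points of `R`. -/
def secG (α : Type*) {G : Type*} [Group G] [MulAction G α] (R : Subgroup G) :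
    Subgroup (Equiv.Perm (secY α R)) :=
  (toPermHom (Subgroup.normalizer (R : Set G)) (secY α R)).range

theorem secG_trans {R : Subgroup G} {k : ℕ}
    (h : IsMultiplyPretransitive (Subgroup.normalizer (R : Set G)) (secY α R) k) :
    IsMultiplyPretransitive (secG α R) (secY α R) k := by
  refine ⟨fun x y => ?_⟩
  obtain ⟨g, hg⟩ := h.exists_smul_eq x y
  refine ⟨⟨toPermHom _ _ g, ⟨g, rfl⟩⟩, ?_⟩
  rw [← hg]
  rfl

theorem card_secG {R : Subgroup G} {P : Sylow p G} (hRP : R ≤ P)
    (hN : (P : Subgroup G) ≤ Subgroup.normalizer (R : Set G)) {e : ℕ}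
    (hc : p ^ e * Nat.card R = Nat.card (P : Subgroup G))
    (hker : ∀ g ∈ P, (∀ a ∈ Fx α R, g • a = a) → g ∈ R) :
    ¬ p ^ (e + 1) ∣ Nat.card (secG α R) := by
  intro hdvd
  set N := Subgroup.normalizer (R : Set G) with hNdef
  set f : N →* Equiv.Perm (secY α R) := toPermHom N (secY α R) with hf
  set P₁ : Sylow p N := P.subtype hN with hP₁
  change p ^ (e + 1) ∣ Nat.card f.range at hdvd
  set P₂ : Sylow p f.range := P₁.mapSurjective f.rangeRestrict_surjective with hP₂
  have h1 : Nat.card (P₂ : Subgroup f.range) = p ^ e := by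
    rw [hP₂, Sylow.coe_mapSurjective, ← Subgroup.relIndex_ker]
    have h2 : (f.rangeRestrict.ker ⊓ (P₁ : Subgroup N)) = R.subgroupOf N := by
      ext g
      rw [Subgroup.mem_inf, MonoidHom.mem_ker, Subgroup.mem_subgroupOf]
      constructor
      · rintro ⟨h3, h4⟩
        apply hker _ h4
        intro a ha
        have h5 : f g = 1 := congrArg Subtype.val h3
        have h6 := DFunLike.congr_fun h5 (⟨a, mem_secY.2 ha⟩ : secY α R)
        exact congrArg Subtype.val h6
      · intro h3
        refine ⟨?_, hRP h3⟩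
        apply Subtype.ext
        change f g = 1
        ext x
        exact x.2 _ h3
    have h3 := Subgroup.relIndex_mul_relIndex (R.subgroupOf N ⊓ (P₁ : Subgroup N)) (P₁ : Subgroup N) ⊤
    have h4 : f.rangeRestrict.ker.relIndex (P₁ : Subgroup N) =
        (R.subgroupOf N).relIndex (P₁ : Subgroup N) := by
      rw [← Subgroup.inf_relIndex_right, h2]
    rw [h4]
    have h5 : (R.subgroupOf N) ≤ (P₁ : Subgroup N) := by
      intro g hg
      exact hRP hg
    have h6 := ((R.subgroupOf N).subgroupOf (P₁ : Subgroup N)).card_mul_index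
    rw [card_subgroupOf' h5, card_subgroupOf' (hRP.trans hN)] at h6
    have h7 : Nat.card (P₁ : Subgroup N) = Nat.card (P : Subgroup G) := by
      rw [hP₁, Sylow.coe_subtype]
      exact card_subgroupOf' hN
    rw [h7, ← hc, mul_comm] at h6
    exact Nat.eq_of_mul_eq_mul_right Nat.card_pos h6
  rw [P₂.card_eq_multiplicity] at h1
  have hp := (Fact.out : p.Prime)
  have h2 : (Nat.card f.range).factorization p = e := Nat.pow_right_injective hp.two_le h1
  have h3 := (hp.pow_dvd_iff_le_factorization Nat.card_pos.ne').1 hdvd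
  omega

end Cfsg.Agent.H385.St
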