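import Cfsg.Agent.H968.TwoM22Fact
import Cfsg.Agent.H385.SpPairC

/-!
# `15 ∉ ω(M22)` (helper385)
-/

set_option autoImplicit false

namespace Cfsg.Agent.H385.Sp

open Cfsg Subgroup

theorem m22_fifteen {X : Type*} [Group X] (h : Spor.IsoM22 X) : ¬ ∃ x : X, orderOf x = 15 := by
  obtain ⟨e⟩ := h
  obtain ⟨-, ⟨s, -, -, -, -, -, -, h5, h6, -, -⟩, -, -⟩ := H968.TwoM22.three
  have key : ¬ ∃ x : Spor.M22, orderOf x = 3 * 5 := by
    refine not_of_cent (N := 36) (by norm_num) (by norm_num) (fun x hx => ?_) (by norm_num)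
    obtain ⟨c, rfl⟩ := isConj_iff.1 (h6 x hx)
    rw [← h5]
    apply dvd_of_eq
    refine (Nat.card_congr ?_).symm
    refine ((MulAut.conj c).toEquiv.subtypeEquiv fun g => ?_)
    show g ∈ centralizer ({s} : Set Spor.M22) ↔ c * g * c⁻¹ ∈ centralizer ({c * s * c⁻¹} : Set Spor.M22)
    rw [mem_centralizer_singleton_iff, mem_centralizer_singleton_iff]
    constructor
    · intro hg
      calc c * g * c⁻¹ * (c * s * c⁻¹) = c * (g * s) * c⁻¹ := by group
        _ = c * (s * g) * c⁻¹ := by rw [hg]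
        _ = _ := by group
    · intro hg
      have h1 : c * (g * s) * c⁻¹ = c * (s * g) * c⁻¹ := by
        calc c * (g * s) * c⁻¹ = c * g * c⁻¹ * (c * s * c⁻¹) := by group
          _ = _ := hg
          _ = _ := by group
      exact mul_left_cancel (mul_right_cancel h1)
  rintro ⟨x, hx⟩
  exact key ⟨e x, by rw [MulEquiv.orderOf_eq, hx]⟩

end Cfsg.Agent.H385.Sp
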