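import Cfsg.Agent.HN.A12Group

/-!
# `HN` has elements of order four (helper385)
-/

set_option autoImplicit false

namespace Cfsg.Agent.H385.Sp

open Cfsg Subgroup

def c4 : Equiv.Perm (Fin 12) := Equiv.swap 0 1 * Equiv.swap 1 2 * Equiv.swap 2 3 * Equiv.swap 4 5

theorem c4_mem : c4 ∈ alternatingGroup (Fin 12) := by
  rw [Equiv.Perm.mem_alternatingGroup]
  decide +kernel

theorem c4_order : orderOf c4 = 4 := by
  have : Fact (Nat.Prime 2) := ⟨Nat.prime_two⟩
  have h : orderOf c4 = 2 ^ (1 + 1) := orderOf_eq_prime_pow (by decide +kernel) (by decide +kernel)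
  rw [h]
  norm_num

theorem hn_four {X : Type*} [Group X] (hs : IsSimpleGroup X) (h : Spor.IsoHN X) : ∃ x : X, orderOf x = 4 := by
  obtain ⟨e⟩ := h
  have hsm : IsSimpleGroup Spor.HN := (MulEquiv.isSimpleGroup_congr e).1 hs
  obtain ⟨K, ⟨f⟩⟩ := Cfsg.Agent.HN.A12Group.exists_alternating
  refine ⟨e.symm (f.symm ⟨c4, c4_mem⟩ : K), ?_⟩
  rw [MulEquiv.orderOf_eq, Subgroup.orderOf_coe, MulEquiv.orderOf_eq, Subgroup.orderOf_mk, c4_order]

end Cfsg.Agent.H385.Sp
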