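import Cfsg.Agent.H385.SpPairC
import Cfsg.Agent.HN.A12Group

/-!
# The pair `L = HN`, `X = J1` (helper385)
-/

set_option autoImplicit false
set_option linter.unusedSectionVars false

namespace Cfsg.Agent.H385.Sp

open Cfsg Subgroup Cfsg.Agent.H403

universe u v w

def c9 : Equiv.Perm (Fin 12) := Equiv.swap 0 1 * Equiv.swap 1 2 * Equiv.swap 2 3 * Equiv.swap 3 4 * Equiv.swap 4 5 *
  Equiv.swap 5 6 * Equiv.swap 6 7 * Equiv.swap 7 8

theorem c9_mem : c9 ∈ alternatingGroup (Fin 12) := by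
  rw [Equiv.Perm.mem_alternatingGroup]
  decide +kernel

theorem c9_order : orderOf c9 = 9 := by
  have : Fact (Nat.Prime 3) := ⟨Nat.prime_three⟩
  have h : orderOf c9 = 3 ^ (1 + 1) := orderOf_eq_prime_pow (by decide +kernel) (by decide +kernel)
  rw [h]
  norm_num

theorem hn_nine {X : Type*} [Group X] (hs : IsSimpleGroup X) (h : Spor.IsoHN X) : ∃ x : X, orderOf x = 9 := by
  obtain ⟨e⟩ := h
  have hsm : IsSimpleGroup Spor.HN := (MulEquiv.isSimpleGroup_congr e).1 hs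
  obtain ⟨K, ⟨f⟩⟩ := Cfsg.Agent.HN.A12Group.exists_alternating
  refine ⟨e.symm (f.symm ⟨c9, c9_mem⟩ : K), ?_⟩
  rw [MulEquiv.orderOf_eq, Subgroup.orderOf_coe, MulEquiv.orderOf_eq, Subgroup.orderOf_mk, c9_order]

theorem frb_j1 {X : Type*} [Group X] (h : Spor.IsoJ1 X) : Frb X 19 6 := by
  obtain ⟨e⟩ := h
  exact (frb_of_fb (by norm_num) Cfsg.Agent.H61.SpAlt.fb_J1).congr e.symm

variable {L : Type u} [Group L] [Finite L] {G : Type v} [Group G] [Finite G] {X : Type w} [Group X] [Finite X]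

theorem hn_j1 (n18 : ¬ ∃ a : L, orderOf a = 18)
    (hiso : ∀ t : ℕ, t.Prime → t ∣ Nat.card L → t ≠ 19 → ¬ ∃ a : L, orderOf a = 19 * t)
    (hL : Spor.IsoHN L) (hLs : IsSimpleGroup L) (hX : Spor.IsoJ1 X) (hXs : IsSimpleGroup X) (hO : OddInn X)
    (h : SameO G L) (hst : Struct G X) : False := by
  have hc := NotCT.Orders.hn hL
  have hcX := NotCT.Orders.j1 hX
  refine elim_D h hst hXs (p := 19) (m := 9) (by norm_num) (by norm_num)
    (exists_of_card (by norm_num) hc (by norm_num)) hiso (by rw [hc]; norm_num) (Or.inl ⟨by decide, hO⟩)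
    (hn_nine hLs hL) ?_ (exists_of_card (by norm_num) hcX (by norm_num)) ?_
  · rintro ⟨x, hx⟩
    have h1 := orderOf_dvd_natCard x
    rw [hx, hcX] at h1
    norm_num at h1
  · intro s hs' hsd
    have h3 := eq_three_of_dvd_nine hs' hsd
    subst h3
    exact ⟨by norm_num, 19, 6, by norm_num, by norm_num, frb_j1 hX, n18⟩

end Cfsg.Agent.H385.Sp
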