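import Cfsg.Agent.H385.SpTopB
import Cfsg.Agent.H403.SporElim

/-!
# Elimination tools for composition factors (helper385)

`Frb X q e` : `X` has a nontrivial `q`-group `A` and an element `x` of order `e` normalizing `A`, the elements `x ^ i`,
`0 < i < e`, commuting with no nontrivial element of `A`.

* `nilpotent_of_isolated`;
* `kill_top` : `K` nilpotent, `s ∣ |K|`, `Frb X q e`, `m ∈ ω(X)`: `m s ∈ ω(G)` or `e s ∈ ω(G)`;
* `kill_klein`;
* `kill_frob` : `s ∣ |K|`, `Frb X q e`, `q, e, s` different primes: `e s` or `q e ∈ ω(G)`;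
* `prime_dvd_K` : `m ∈ ω(G)` odd, `m ∉ ω(X)`: a prime divisor of `m` divides `|K|`.
-/

set_option autoImplicit false
set_option linter.unusedSectionVars false
set_option linter.style.haveILetI false

namespace Cfsg.Agent.H385.Sp

open Finset Subgroup Cfsg.Agent.H403

/-- a Frobenius group with kernel a `q`-group and complement cyclic of order `e` -/
def Frb (X : Type*) [Group X] (q e : ℕ) : Prop :=
  ∃ (A : Subgroup X) (x : X), IsPGroup q ↥A ∧ A ≠ ⊥ ∧ orderOf x = e ∧ (∀ a ∈ A, x * a * x⁻¹ ∈ A) ∧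
    ∀ i, 0 < i → i < e → ∀ a ∈ A, a * x ^ i = x ^ i * a → a = 1

theorem Frb.map {X Y : Type*} [Group X] [Group Y] (j : X →* Y) (hj : Function.Injective j) {q e : ℕ} (h : Frb X q e) :
    Frb Y q e := by
  obtain ⟨A, x, h1, h2, h3, h4, h5⟩ := h
  refine ⟨A.map j, j x, h1.map _, ?_, ?_, ?_, ?_⟩
  · rwa [ne_eq, Subgroup.map_eq_bot_iff_of_injective _ hj]
  · rw [orderOf_injective j hj, h3]
  · rintro _ ⟨a, ha, rfl⟩
    exact ⟨x * a * x⁻¹, h4 a ha, by rw [map_mul, map_mul, map_inv]⟩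
  · rintro i hi hie _ ⟨a, ha, rfl⟩ hc
    rw [← map_pow, ← map_mul, ← map_mul] at hc
    rw [h5 i hi hie a ha (hj hc), map_one]

theorem Frb.congr {X Y : Type*} [Group X] [Group Y] (f : X ≃* Y) {q e : ℕ} (h : Frb X q e) : Frb Y q e :=
  h.map f.toMonoidHom f.injective

theorem Frb.pow {X : Type*} [Group X] {q e k d : ℕ} (hk : e = k * d) (h : Frb X q e) (hk0 : 0 < k) :
    Frb X q d := by
  obtain ⟨A, x, h1, h2, h3, h4, h5⟩ := h
  refine ⟨A, x ^ k, h1, h2, ?_, ?_, ?_⟩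
  · rw [orderOf_pow' x hk0.ne', h3, hk, Nat.gcd_eq_right (Dvd.intro d rfl), Nat.mul_div_cancel_left _ hk0]
  · have h6 : ∀ j : ℕ, ∀ a ∈ A, x ^ j * a * (x ^ j)⁻¹ ∈ A := by
      intro j
      induction j with
      | zero => intro a ha; simpa using ha
      | succ j ih =>
        intro a ha
        have h7 := h4 _ (ih a ha)
        have h8 : x * (x ^ j * a * (x ^ j)⁻¹) * x⁻¹ = x ^ (j + 1) * a * (x ^ (j + 1))⁻¹ := by
          rw [pow_succ' x j, mul_inv_rev]; group
        rwa [h8] at h7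
    exact h6 k
  · intro i hi hid a ha hc
    rw [← pow_mul] at hc
    refine h5 (k * i) (Nat.mul_pos hk0 hi) ?_ a ha hc
    rw [hk]
    exact Nat.mul_lt_mul_of_pos_left hid hk0

/-- the Frobenius group `⟨a⟩⟨x⟩` -/
theorem frb_of_conj {X : Type*} [Group X] {q e j : ℕ} (hq : q.Prime) (a x : X) (ha : orderOf a = q) (hx : orderOf x = e)
    (hc : x * a * x⁻¹ = a ^ j) (hj : ∀ i, 0 < i → i < e → (j ^ i) % q ≠ 1) : Frb X q e := by
  have := Fact.mk hq
  refine ⟨zpowers a, x, ?_, ?_, hx, ?_, ?_⟩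
  · refine IsPGroup.of_card (n := 1) ?_
    rw [Nat.card_zpowers, ha, pow_one]
  · intro h
    rw [zpowers_eq_bot] at h
    rw [h, orderOf_one] at ha
    exact hq.one_lt.ne ha
  · rintro _ ⟨n, rfl⟩
    refine ⟨j * n, ?_⟩
    have h1 : x * a ^ n * x⁻¹ = (x * a * x⁻¹) ^ n := conj_zpow.symm
    change a ^ ((j : ℤ) * n) = x * a ^ n * x⁻¹
    rw [h1, hc, zpow_mul, zpow_natCast]
  · rintro i hi hie b hb hcb
    by_contra hb1
    have hfin : Finite ↥(zpowers a) := by
      have h0 : Nat.card ↥(zpowers a) ≠ 0 := by rw [Nat.card_zpowers, ha]; exact hq.ne_zero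
      exact (Nat.card_ne_zero.1 h0).2
    -- `b` generates
    have hbo : orderOf b = q := by
      have h2 : orderOf b ∣ q := by
        obtain ⟨n, rfl⟩ := hb
        rw [← ha]
        exact orderOf_dvd_of_mem_zpowers ⟨n, rfl⟩
      rcases (Nat.dvd_prime hq).1 h2 with h3 | h3
      · exact absurd (orderOf_eq_one_iff.1 h3) hb1
      · exact h3
    have hzb : zpowers b = zpowers a := by
      apply Subgroup.eq_of_le_of_card_ge
      · exact zpowers_le.2 hb
      · rw [Nat.card_zpowers, Nat.card_zpowers, ha, hbo]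
    have haz : a ∈ zpowers b := by rw [hzb]; exact mem_zpowers a
    have hca : a * x ^ i = x ^ i * a := by
      obtain ⟨n, hn⟩ := haz
      have h4 : Commute b (x ^ i) := hcb
      have h5 : Commute (b ^ n) (x ^ i) := h4.zpow_left n
      have hn' : b ^ n = a := hn
      rw [hn'] at h5
      exact h5
    have h6 : ∀ k : ℕ, x ^ k * a * (x ^ k)⁻¹ = a ^ (j ^ k) := by
      intro k
      induction k with
      | zero => simp
      | succ k ih =>
        have h7 : x ^ (k + 1) * a * (x ^ (k + 1))⁻¹ = x * (x ^ k * a * (x ^ k)⁻¹) * x⁻¹ := by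
          rw [pow_succ' x k, mul_inv_rev]; group
        rw [h7, ih]
        have h8 : x * a ^ (j ^ k) * x⁻¹ = (x * a * x⁻¹) ^ (j ^ k) := conj_pow.symm
        rw [h8, hc, ← pow_mul, pow_succ' j k]
    have h9 := h6 i
    rw [← hca, mul_inv_cancel_right] at h9
    have h10 : j ^ i ≡ 1 [MOD q] := by
      rw [← ha, ← pow_eq_pow_iff_modEq, pow_one]
      exact h9.symm
    apply hj i hi hie
    have h11 : j ^ i % q = 1 % q := h10
    rw [h11, Nat.mod_eq_of_lt hq.one_lt]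

/-- `2² × A⟨w⟩` -/
def Kln (X : Type*) [Group X] : Prop :=
  ∃ (A : Subgroup X) (w u₁ u₂ : X), IsPGroup 2 ↥A ∧ A ≠ ⊥ ∧ orderOf w = 3 ∧ (∀ a ∈ A, w * a * w⁻¹ ∈ A) ∧
    (∀ i, 0 < i → i < 3 → ∀ a ∈ A, a * w ^ i = w ^ i * a → a = 1) ∧ orderOf u₁ = 2 ∧ orderOf u₂ = 2 ∧ u₁ ≠ u₂ ∧
    u₁ * u₂ = u₂ * u₁ ∧ u₁ * w = w * u₁ ∧ u₂ * w = w * u₂

theorem Kln.map {X Y : Type*} [Group X] [Group Y] (j : X →* Y) (hj : Function.Injective j) (h : Kln X) : Kln Y := by
  obtain ⟨A, w, u, v, h1, h2, h3, h4, h5, h6, h7, h8, h9, h10, h11⟩ := h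
  refine ⟨A.map j, j w, j u, j v, h1.map _, ?_, ?_, ?_, ?_, ?_, ?_, ?_, ?_, ?_, ?_⟩
  · rwa [ne_eq, Subgroup.map_eq_bot_iff_of_injective _ hj]
  · rw [orderOf_injective j hj, h3]
  · rintro _ ⟨a, ha, rfl⟩
    exact ⟨w * a * w⁻¹, h4 a ha, by rw [map_mul, map_mul, map_inv]⟩
  · rintro i hi hie _ ⟨a, ha, rfl⟩ hc
    rw [← map_pow, ← map_mul, ← map_mul] at hc
    rw [h5 i hi hie a ha (hj hc), map_one]
  · rw [orderOf_injective j hj, h6]
  · rw [orderOf_injective j hj, h7]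
  · exact fun hh => h8 (hj hh)
  · rw [← map_mul, ← map_mul, h9]
  · rw [← map_mul, ← map_mul, h10]
  · rw [← map_mul, ← map_mul, h11]

section

variable {G : Type*} [Group G] [Finite G] (K : Subgroup G) [K.Normal]

/-- an element of prime order `p` with `p t ∉ ω(G)` for all primes `t ∣ |K|` -/
theorem nilpotent_of_isolated {p : ℕ} (hp : p.Prime) (hpG : ∃ g : G, orderOf g = p) (hpK : ¬ p ∣ Nat.card ↥K)
    (hiso : ∀ t : ℕ, t.Prime → t ∣ Nat.card ↥K → ¬ ∃ g : G, orderOf g = p * t) : Group.IsNilpotent ↥K := by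
  obtain ⟨x, hx⟩ := hpG
  by_cases hK : ∀ k ∈ K, k = 1
  · have : Subsingleton ↥K := ⟨fun a b => Subtype.ext ((hK a a.2).trans (hK b b.2).symm)⟩
    infer_instance
  have hfix : ∀ k : ↥K, MulAut.conjNormal x k = k → k = 1 := by
    intro k hk
    by_contra hk1
    have h1 : orderOf (k : G) ≠ 1 := by
      rw [ne_eq, orderOf_eq_one_iff]
      exact fun h => hk1 (Subtype.ext h)
    obtain ⟨t, ht, htd⟩ := Nat.exists_prime_and_dvd h1
    obtain ⟨c, hc⟩ := htd
    have hcpos : 0 < orderOf (k : G) := orderOf_pos _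
    have hc0 : c ≠ 0 := by
      rintro rfl
      rw [hc, mul_zero] at hcpos
      exact lt_irrefl 0 hcpos
    have h2 : orderOf ((k : G) ^ c) = t := by
      rw [orderOf_pow' _ hc0, hc, Nat.gcd_eq_right (Dvd.intro_left t rfl), Nat.mul_div_cancel _ (Nat.pos_of_ne_zero hc0)]
    have h3 : t ∣ Nat.card ↥K := by
      have h4 := orderOf_dvd_natCard (k ^ c)
      rwa [← Subgroup.orderOf_coe, Subgroup.coe_pow, h2] at h4
    have h5 : x * (k : G) = k * x := by
      have h6 : x * (k : G) * x⁻¹ = k := by rw [← MulAut.conjNormal_apply, hk]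
      exact mul_inv_eq_iff_eq_mul.1 h6
    have hpt : p ≠ t := fun h => hpK (h ▸ h3)
    exact hiso t ht h3 (Cfsg.Agent.H395.Coclique.exists_mul_of_commute hp ht hpt hx h2
      ((show Commute x (k : G) from h5).pow_right c).eq)
  have hord : orderOf (MulAut.conjNormal x : MulAut ↥K) = p := by
    have h1 : orderOf (MulAut.conjNormal x : MulAut ↥K) ∣ p := by rw [← hx]; exact orderOf_map_dvd _ _
    rcases (Nat.dvd_prime hp).1 h1 with h2 | h2
    · exfalso
      apply hK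
      intro k hk
      have h3 := hfix ⟨k, hk⟩ (by rw [orderOf_eq_one_iff.1 h2]; rfl)
      exact congrArg Subtype.val h3
    · exact h2
  exact S0033.result (MulAut.conjNormal x : MulAut ↥K) (by
    intro k hk
    exact hfix k hk) p hp hord

variable {X : Type*} [Group X] (S : Subgroup (G ⧸ K)) [S.Normal] (hX : IsSimpleGroup X) (f : ↥S ≃* X)

include hX f in
theorem simple_S : IsSimpleGroup ↥S := by
  have : Nontrivial ↥S := f.toEquiv.nontrivial
  exact IsSimpleGroup.isSimpleGroup_of_surjective f.symm.toMonoidHom f.symm.surjective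

include hX f

/-- a Frobenius group and a nilpotent kernel -/
theorem kill_top (hnil : Group.IsNilpotent ↥K) {s : ℕ} (hs : s.Prime) (hsK : s ∣ Nat.card ↥K) {q e m : ℕ} (hqs : q ≠ s)
    (hq : q.Prime) (hF : Frb X q e) (hm : ∃ x : X, orderOf x = m) (hms : Nat.Coprime m s)
    (h1 : ¬ ∃ g : G, orderOf g = m * s) (h2 : ¬ ∃ g : G, orderOf g = e * s) : False := by
  have := Fact.mk hq
  have := Fact.mk hs
  have : Finite X := Finite.of_equiv _ f.toEquiv
  obtain ⟨A, x, hA, hA1, hx, hn, hfx⟩ := hF.congr f.symm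
  apply h2
  refine top_frob' K S (simple_S K S hX f) hs (exists_hom_of_nilpotent hs hnil hsK) A hA1 ?_ x hx hn hfx hms ?_ h1
  · intro hd
    obtain ⟨n, hn⟩ := (IsPGroup.iff_card).1 hA
    rw [hn] at hd
    exact hqs ((Nat.prime_dvd_prime_iff_eq hs hq).1 (hs.dvd_of_dvd_pow hd)).symm
  · obtain ⟨y, hy⟩ := hm
    exact ⟨f.symm y, by rw [MulEquiv.orderOf_eq, hy]⟩

/-- `2² × A⟨w⟩` and a nilpotent kernel -/
theorem kill_klein (hnil : Group.IsNilpotent ↥K) (hsK : 3 ∣ Nat.card ↥K) {m : ℕ}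
    (hF : Kln X) (hm : ∃ x : X, orderOf x = m) (hms : Nat.Coprime m 3)
    (h1 : ¬ ∃ g : G, orderOf g = m * 3) (h2 : ¬ ∃ g : G, orderOf g = 18) : False := by
  have : Finite X := Finite.of_equiv _ f.toEquiv
  obtain ⟨A, w, u, v, a1, a2, a3, a4, a5, a6, a7, a8, a9, a10, a11⟩ := hF.map f.symm.toMonoidHom f.symm.injective
  apply h2
  refine top_klein' K S (simple_S K S hX f) (exists_hom_of_nilpotent Nat.prime_three hnil hsK) A a2 ?_ w a3 a4 a5 u v a6 a7
    a8 a9 a10 a11 hms ?_ h1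
  · intro hd
    obtain ⟨n, hn⟩ := (IsPGroup.iff_card).1 a1
    rw [hn] at hd
    exact absurd ((Nat.prime_dvd_prime_iff_eq Nat.prime_three Nat.prime_two).1 (Nat.prime_three.dvd_of_dvd_pow hd))
      (by norm_num)
  · obtain ⟨y, hy⟩ := hm
    exact ⟨f.symm y, by rw [MulEquiv.orderOf_eq, hy]⟩

/-- a Frobenius group, no nilpotency -/
theorem kill_frob {s q e : ℕ} (hs : s.Prime) (hq : q.Prime) (he : e.Prime) (hsq : s ≠ q) (hse : s ≠ e) (hqe : q ≠ e)
    (hsK : s ∣ Nat.card ↥K) (hF : Frb X q e) (h1 : ¬ ∃ g : G, orderOf g = s * e) (h2 : ¬ ∃ g : G, orderOf g = q * e) :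
    False := by
  have : Finite X := Finite.of_equiv _ f.toEquiv
  obtain ⟨A, x, hA, hA1, hx, hn, hfx⟩ := hF.congr f.symm
  refine false_of_frob K S (simple_S K S hX f) hs hq he hsq hse hqe hsK ?_ (A.map S.subtype) (hA.map _) ?_ ?_
    (x : G ⧸ K) (by rw [Subgroup.orderOf_coe, hx]) ?_ h1 h2
  · rw [← hx]
    exact orderOf_dvd_natCard x
  · rwa [ne_eq, Subgroup.map_eq_bot_iff_of_injective _ S.subtype_injective]
  · rintro _ ⟨a, -, rfl⟩
    exact a.2
  · refine Subgroup.le_normalizer_map S.subtype ⟨x, ?_, rfl⟩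
    rw [SetLike.mem_coe, mem_normalizer_iff]
    intro a
    constructor
    · exact hn a
    · intro ha
      have h3 : ∀ k : ℕ, ∀ a ∈ A, x ^ k * a * (x ^ k)⁻¹ ∈ A := by
        intro j
        induction j with
        | zero => intro a ha; simpa using ha
        | succ j ih =>
          intro a ha
          have h7 := hn _ (ih a ha)
          have h8 : x * (x ^ j * a * (x ^ j)⁻¹) * x⁻¹ = x ^ (j + 1) * a * (x ^ (j + 1))⁻¹ := by
            rw [pow_succ' x j, mul_inv_rev]; group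
          rwa [h8] at h7
      have h4 := h3 (e - 1) _ ha
      have h5 : x ^ (e - 1) * x = 1 := by
        rw [← pow_succ, Nat.sub_add_cancel he.one_lt.le, ← hx, pow_orderOf_eq_one]
      have h6 : x ^ (e - 1) = x⁻¹ := eq_inv_of_mul_eq_one_left h5
      rw [h6] at h4
      have h7 : x⁻¹ * (x * a * x⁻¹) * x⁻¹⁻¹ = a := by group
      rwa [h7] at h4

omit hX in
/-- an element of odd order outside `S` -/
theorem prime_dvd_K (hC : centralizer (S : Set (G ⧸ K)) = ⊥) (hO : OddInn X) {m : ℕ} (hm : Odd m)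
    (hG : ∃ g : G, orderOf g = m) (hno : ¬ ∃ x : X, orderOf x = m) : ∃ s, s.Prime ∧ s ∣ m ∧ s ∣ Nat.card ↥K := by
  by_contra hcon
  push Not at hcon
  apply hno
  obtain ⟨y, hy⟩ := exists_S K S hC (hO.congr f.symm) hm (Nat.Coprime.symm (Nat.Coprime.symm
    (Nat.coprime_of_dvd fun k hk h1 h2 => hcon k hk h1 h2))) hG
  exact ⟨f y, by rw [MulEquiv.orderOf_eq, hy]⟩

end

end Cfsg.Agent.H385.Sp
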