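import Cfsg.Agent.H385.SpKill
import Cfsg.Agent.H921.SporM24
import Cfsg.Agent.H61.SpAltFb

/-!
# The Frobenius group `3² : 8` in `M11` (helper385)
-/

set_option autoImplicit false

namespace Cfsg.Agent.H385.Sp

open Subgroup

section

variable {X : Type*} [Group X] {a b x : X}

/-- the products `a ^ i * b ^ j` -/
def abGroup (hab : Commute a b) : Subgroup X where
  carrier := {g | ∃ i j : ℤ, g = a ^ i * b ^ j}
  mul_mem' := by
    rintro _ _ ⟨i, j, rfl⟩ ⟨k, l, rfl⟩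
    refine ⟨i + k, j + l, ?_⟩
    have h1 : b ^ j * a ^ k = a ^ k * b ^ j := (hab.zpow_zpow k j).eq.symm
    rw [zpow_add, zpow_add]
    calc a ^ i * b ^ j * (a ^ k * b ^ l) = a ^ i * (b ^ j * a ^ k) * b ^ l := by group
      _ = _ := by rw [h1]; group
  one_mem' := ⟨0, 0, by simp⟩
  inv_mem' := by
    rintro _ ⟨i, j, rfl⟩
    refine ⟨-i, -j, ?_⟩
    rw [mul_inv_rev, zpow_neg, zpow_neg]
    exact ((hab.zpow_zpow i j).inv_inv).eq.symm

theorem frb_nine (ha : a ^ 3 = 1) (ha1 : a ≠ 1) (hb : b ^ 3 = 1) (hab : a * b = b * a) (hxa : x * a = b * x)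
    (hxb : x * b = a * b * x) (h4a : x ^ 4 * a = a ^ 2 * x ^ 4) (h4b : x ^ 4 * b = b ^ 2 * x ^ 4) (ho : orderOf x = 8) :
    Frb X 3 8 := by
  have hc : Commute a b := hab
  have h3 : ∀ i j : ℤ, (a ^ i * b ^ j) ^ 3 = 1 := by
    intro i j
    rw [(hc.zpow_zpow i j).mul_pow, ← zpow_natCast, ← zpow_natCast, ← zpow_mul, ← zpow_mul, mul_comm i, mul_comm j,
      zpow_mul, zpow_mul, zpow_natCast, zpow_natCast, ha, hb, one_zpow, one_zpow, one_mul]
  have hai : a ^ 2 = a⁻¹ := by rw [eq_inv_iff_mul_eq_one, ← pow_succ, ha]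
  have hbi : b ^ 2 = b⁻¹ := by rw [eq_inv_iff_mul_eq_one, ← pow_succ, hb]
  refine ⟨abGroup hc, x, ?_, ?_, ho, ?_, ?_⟩
  · rintro ⟨_, i, j, rfl⟩
    exact ⟨1, Subtype.ext (by simpa using h3 i j)⟩
  · intro h
    have h1 : a ∈ abGroup hc := ⟨1, 0, by simp⟩
    rw [h, mem_bot] at h1
    exact ha1 h1
  · rintro _ ⟨i, j, rfl⟩
    refine ⟨j, i + j, ?_⟩
    have e1 : x * a * x⁻¹ = b := by rw [hxa, mul_inv_cancel_right]
    have e2 : x * b * x⁻¹ = a * b := by rw [hxb, mul_inv_cancel_right]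
    have h1 : x * (a ^ i * b ^ j) * x⁻¹ = (x * a * x⁻¹) ^ i * (x * b * x⁻¹) ^ j := by
      rw [conj_zpow, conj_zpow]; group
    rw [h1, e1, e2, hc.mul_zpow, zpow_add, ← mul_assoc (b ^ i), ← (hc.zpow_zpow j i).eq, mul_assoc]
  · rintro i hi hi8 _ ⟨k, l, rfl⟩ hcom
    set g := a ^ k * b ^ l with hg
    -- `g` commutes with `x ^ 4`
    obtain ⟨n, hn⟩ : ∃ n : ℕ, 8 ∣ i * n + 4 := by
      interval_cases i
      · exact ⟨4, by norm_num⟩
      · exact ⟨2, by norm_num⟩
      · exact ⟨4, by norm_num⟩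
      · exact ⟨1, by norm_num⟩
      · exact ⟨4, by norm_num⟩
      · exact ⟨2, by norm_num⟩
      · exact ⟨4, by norm_num⟩
    have h5 : x ^ 4 = (x ^ (i * n))⁻¹ := by
      rw [eq_inv_iff_mul_eq_one, ← pow_add, ← orderOf_dvd_iff_pow_eq_one, ho, add_comm]
      exact hn
    have h6 : Commute g (x ^ 4) := by
      rw [h5, pow_mul]
      exact ((show Commute g (x ^ i) from hcom).pow_right n).inv_right
    have e1 : x ^ 4 * a * (x ^ 4)⁻¹ = a⁻¹ := by rw [h4a, mul_inv_cancel_right, hai]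
    have e2 : x ^ 4 * b * (x ^ 4)⁻¹ = b⁻¹ := by rw [h4b, mul_inv_cancel_right, hbi]
    have h7 : x ^ 4 * g * (x ^ 4)⁻¹ = g⁻¹ := by
      have h8 : x ^ 4 * (a ^ k * b ^ l) * (x ^ 4)⁻¹ = (x ^ 4 * a * (x ^ 4)⁻¹) ^ k * (x ^ 4 * b * (x ^ 4)⁻¹) ^ l := by
        rw [conj_zpow, conj_zpow]; group
      rw [hg, h8, e1, e2, mul_inv_rev, inv_zpow, inv_zpow]
      exact ((hc.zpow_zpow k l).inv_inv).eq
    rw [← h6.eq, mul_inv_cancel_right] at h7
    have h9 : g ^ 2 = 1 := by rw [pow_two]; exact mul_eq_one_iff_eq_inv.2 h7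
    have h10 : g ^ 3 = 1 := h3 k l
    rw [pow_succ, h9, one_mul] at h10
    exact h10

end

open Cfsg.Agent.SporadicA.GolayBase Cfsg.Agent.SporadicA.GolayPerm Cfsg.Agent.SporadicStructure.M24El
open Cfsg.Agent.H921.Spor.M24

def mA : ℕ := 901278622816567507639442004315844736
def mB : ℕ := 438393639081142986163718963584927232
def mX : ℕ := 222803950135927914560252560635343424

theorem okA : ok mA = true := by decide +kernel
theorem okB : ok mB = true := by decide +kernel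
theorem okX : ok mX = true := by decide +kernel

theorem frb_m11_eight' : Frb Cfsg.Spor.M11 3 8 := by
  have hA : (el mA : Equiv.Perm Cfsg.GolayPt) ∈ Cfsg.Spor.M11 := mem_M11 (by decide +kernel)
  have hB : (el mB : Equiv.Perm Cfsg.GolayPt) ∈ Cfsg.Spor.M11 := mem_M11 (by decide +kernel)
  have hX : (el mX : Equiv.Perm Cfsg.GolayPt) ∈ Cfsg.Spor.M11 := mem_M11 (by decide +kernel)
  have key : ∀ {g h : Cfsg.M24}, g = h → (g : Equiv.Perm Cfsg.GolayPt) = h := fun e => by rw [e]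
  have e1 : el mA ^ 3 = 1 := by
    rw [← el_ppow okA, ← el_idP]
    exact congrArg el (Nat.eq_of_beq_eq_true (by decide +kernel))
  have e2 : el mB ^ 3 = 1 := by
    rw [← el_ppow okB, ← el_idP]
    exact congrArg el (Nat.eq_of_beq_eq_true (by decide +kernel))
  have e3 : el mA * el mB = el mB * el mA := by
    rw [← el_pcomp okA okB, ← el_pcomp okB okA]
    exact congrArg el (Nat.eq_of_beq_eq_true (by decide +kernel))
  have e4 : el mX * el mA = el mB * el mX := by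
    rw [← el_pcomp okX okA, ← el_pcomp okB okX]
    exact congrArg el (Nat.eq_of_beq_eq_true (by decide +kernel))
  have e5 : el mX * el mB = el mA * el mB * el mX := by
    rw [← el_pcomp okX okB, ← el_pcomp okA okB, ← el_pcomp (ok_pcomp okA okB) okX]
    exact congrArg el (Nat.eq_of_beq_eq_true (by decide +kernel))
  have e6 : el mX ^ 4 * el mA = el mA ^ 2 * el mX ^ 4 := by
    rw [← el_ppow okX, ← el_ppow okA, ← el_pcomp (ok_ppow okX 4) okA, ← el_pcomp (ok_ppow okA 2) (ok_ppow okX 4)]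
    exact congrArg el (Nat.eq_of_beq_eq_true (by decide +kernel))
  have e7 : el mX ^ 4 * el mB = el mB ^ 2 * el mX ^ 4 := by
    rw [← el_ppow okX, ← el_ppow okB, ← el_pcomp (ok_ppow okX 4) okB, ← el_pcomp (ok_ppow okB 2) (ok_ppow okX 4)]
    exact congrArg el (Nat.eq_of_beq_eq_true (by decide +kernel))
  have e8 : el mX ^ 8 = 1 := by
    rw [← el_ppow okX, ← el_idP]
    exact congrArg el (Nat.eq_of_beq_eq_true (by decide +kernel))
  have n1 : el mA ≠ 1 := el_ne_one okA (i := 1) (by norm_num) (by decide +kernel)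
  have n4 : el mX ^ 4 ≠ 1 := by
    rw [← el_ppow okX]
    exact el_ne_one (ok_ppow okX 4) (i := 1) (by norm_num) (by decide +kernel)
  refine frb_nine (a := (⟨_, hA⟩ : Cfsg.Spor.M11)) (b := ⟨_, hB⟩) (x := ⟨_, hX⟩) (Subtype.ext ?_) ?_ (Subtype.ext ?_)
    (Subtype.ext ?_) (Subtype.ext ?_) (Subtype.ext ?_) (Subtype.ext ?_) (Subtype.ext ?_) ?_
  · simpa using key e1
  · intro h
    apply n1
    apply Subtype.ext
    exact congrArg (fun z : Cfsg.Spor.M11 => (z : Equiv.Perm Cfsg.GolayPt)) h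
  · simpa using key e2
  · simpa using key e3
  · simpa using key e4
  · simpa using key e5
  · simpa using key e6
  · simpa using key e7
  · have h8 : orderOf (el mX) = 2 ^ (2 + 1) := by
      have : Fact (Nat.Prime 2) := ⟨Nat.prime_two⟩
      exact orderOf_eq_prime_pow (by simpa using n4) (by simpa using e8)
    have h9 : orderOf (⟨(el mX : Equiv.Perm Cfsg.GolayPt), hX⟩ : Cfsg.Spor.M11) = orderOf (el mX) := by
      rw [Subgroup.orderOf_mk, Subgroup.orderOf_coe]
    rw [h9, h8]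
    norm_num

theorem frb_m11_eight {X : Type*} [Group X] (h : Cfsg.Spor.IsoM11 X) : Frb X 3 8 := by
  obtain ⟨e⟩ := h
  exact frb_m11_eight'.congr e.symm

end Cfsg.Agent.H385.Sp
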