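import Cfsg.Agent.H385.SpKill

/-!
# Elimination of pairs: the general lemmas (helper385)

`L` a group, `G` a group with the same element orders, `Struct G X`.
-/

set_option autoImplicit false
set_option linter.unusedSectionVars false

namespace Cfsg.Agent.H385.Sp

open Subgroup Cfsg.Agent.H403

universe u v w

/-- all automorphisms are inner -/
def AllInn (X : Type*) [Group X] : Prop := ∀ φ : MulAut X, ∃ k : X, φ = MulAut.conj k

theorem AllInn.congr {X Y : Type*} [Group X] [Group Y] (e : X ≃* Y) (h : AllInn X) : AllInn Y := by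
  intro φ
  obtain ⟨k, hk⟩ := h ((MulAut.congr e).symm φ)
  refine ⟨e k, ?_⟩
  have h1 : φ = MulAut.congr e (MulAut.conj k) := by rw [← hk, MulEquiv.apply_symm_apply]
  rw [h1]
  ext y
  simp [MulAut.congr]

theorem allInn_of_card {X : Type*} [Group X] (h : Nat.card (Cfsg.Out X) = 1) : AllInn X := by
  intro φ
  have h1 : (MulAut.conj : X →* MulAut X).range.index = 1 := h
  rw [index_eq_one] at h1
  have h2 : φ ∈ (MulAut.conj : X →* MulAut X).range := by rw [h1]; trivial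
  obtain ⟨k, hk⟩ := h2
  exact ⟨k, hk.symm⟩

variable {L : Type u} [Group L] {G : Type v} [Group G] [Finite G] {X : Type w} [Group X]

/-- the element orders agree -/
def SameO (G : Type v) [Group G] (L : Type u) [Group L] : Prop :=
  ∀ m, (∃ g : G, orderOf g = m) ↔ ∃ a : L, orderOf a = m

/-- **A** : an order of `X` which is not an order of `L` -/
theorem elim_A (h : SameO G L) (hst : Struct G X) {m : ℕ} (hm : m ≠ 0) (hx : ∃ x : X, orderOf x = m)
    (hl : ¬ ∃ a : L, orderOf a = m) : False :=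
  hl ((h m).1 (exists_of_X hst hm hx))

/-- a prime `p` not joined to 2 does not divide `|K|` -/
theorem prime_not_dvd (h : SameO G L) (K : Subgroup G) [K.Normal] (S : Subgroup (G ⧸ K)) [S.Normal] (f : ↥S ≃* X)
    (hd : ∀ p : ℕ, p.Prime → p ≠ 2 → p ∣ Nat.card G → (¬ ∃ x : G, orderOf x = 2 * p) →
      ∀ k : ℕ, p ^ k ∣ Nat.card G → p ^ k ∣ Nat.card X) {p : ℕ} (hp : p.Prime) (hp2 : p ≠ 2)
    (hpL : ∃ a : L, orderOf a = p) (hn : ¬ ∃ a : L, orderOf a = 2 * p) : ¬ p ∣ Nat.card ↥K := by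
  refine not_dvd_K K S hp fun k hk => ?_
  rw [Nat.card_congr f.toEquiv]
  refine hd p hp hp2 ?_ ?_ k hk
  · obtain ⟨g, hg⟩ := (h p).2 hpL
    rw [← hg]
    exact orderOf_dvd_natCard g
  · rw [h]
    exact hn

/-- the primes of `K` are primes of `L` -/
theorem prime_of_K [Finite L] (h : SameO G L) (K : Subgroup G) {t : ℕ} (ht : t.Prime) (htK : t ∣ Nat.card ↥K) :
    t ∣ Nat.card L := by
  have := Fact.mk ht
  obtain ⟨k, hk⟩ := exists_prime_orderOf_dvd_card' t htK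
  obtain ⟨a, ha⟩ := (h t).1 ⟨(k : G), by rw [Subgroup.orderOf_coe, hk]⟩
  rw [← ha]
  exact orderOf_dvd_natCard a

/-- **C** : an odd prime of `L` which does not divide `|X|` -/
theorem elim_C (h : SameO G L) (hst : Struct G X) (hX : IsSimpleGroup X) (hO : OddInn X) {s q e : ℕ} (hs : s.Prime)
    (hs2 : s ≠ 2) (hsL : ∃ a : L, orderOf a = s) (hsX : ¬ s ∣ Nat.card X) (hF : Frb X q e) (hq : q.Prime) (he : e.Prime)
    (hsq : s ≠ q) (hse : s ≠ e) (hqe : q ≠ e) (n1 : ¬ ∃ a : L, orderOf a = s * e) (n2 : ¬ ∃ a : L, orderOf a = q * e) :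
    False := by
  obtain ⟨K, hK, S, hS, hKs, hC, ⟨f⟩, hd⟩ := hst
  have hsK : s ∣ Nat.card ↥K := by
    refine dvd_K K S hC (hO.congr f.symm) hs hs2 ?_ ?_
    · obtain ⟨g, hg⟩ := (h s).2 hsL
      rw [← hg]
      exact orderOf_dvd_natCard g
    · rwa [Nat.card_congr f.toEquiv]
  exact kill_frob K S hX f hs hq he hsq hse hqe hsK hF (by rw [h]; exact n1) (by rw [h]; exact n2)

/-- an order of `L` which is not an order of `X`: a prime divisor divides `|K|` -/
theorem exists_prime_K (h : SameO G L) (K : Subgroup G) [K.Normal] (S : Subgroup (G ⧸ K)) [S.Normal] (f : ↥S ≃* X)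
    (hC : centralizer (S : Set (G ⧸ K)) = ⊥) {m : ℕ} (hI : (Odd m ∧ OddInn X) ∨ AllInn X)
    (hL : ∃ a : L, orderOf a = m) (hno : ¬ ∃ x : X, orderOf x = m) : ∃ s, s.Prime ∧ s ∣ m ∧ s ∣ Nat.card ↥K := by
  rcases hI with ⟨hm, hO⟩ | hA
  · exact prime_dvd_K K S f hC hO hm ((h m).2 hL) hno
  · by_contra hcon
    push Not at hcon
    apply hno
    have hS : S = ⊤ := by
      rw [eq_top_iff]
      intro g _
      let c : G ⧸ K →* MulAut ↥S := MulAut.conjNormal
      obtain ⟨s, hs⟩ := hA.congr f.symm (c g)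
      have h2 : (s : G ⧸ K)⁻¹ * g ∈ centralizer (S : Set (G ⧸ K)) := by
        rw [mem_centralizer_iff]
        intro y hy
        have h3 : ((c g ⟨y, hy⟩ : ↥S) : G ⧸ K) = ((MulAut.conj s ⟨y, hy⟩ : ↥S) : G ⧸ K) := by rw [hs]
        have h4 : ((c g ⟨y, hy⟩ : ↥S) : G ⧸ K) = g * y * g⁻¹ := MulAut.conjNormal_apply g ⟨y, hy⟩
        rw [h4, MulAut.conj_apply, Subgroup.coe_mul, Subgroup.coe_mul, Subgroup.coe_inv] at h3
        calc y * ((s : G ⧸ K)⁻¹ * g) = (s : G ⧸ K)⁻¹ * ((s : G ⧸ K) * y * (s : G ⧸ K)⁻¹) * g := by group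
          _ = (s : G ⧸ K)⁻¹ * (g * y * g⁻¹) * g := by rw [← h3]
          _ = _ := by group
      rw [hC, mem_bot, inv_mul_eq_one] at h2
      rw [← h2]
      exact s.2
    obtain ⟨g, hg⟩ := (h m).2 hL
    have h1 : orderOf (QuotientGroup.mk' K g) = m := by
      apply Nat.dvd_antisymm
      · rw [← hg]; exact orderOf_map_dvd _ _
      · set j := orderOf (QuotientGroup.mk' K g) with hj
        have h2 : (QuotientGroup.mk' K g) ^ j = 1 := pow_orderOf_eq_one _
        rw [← map_pow, QuotientGroup.mk'_apply, QuotientGroup.eq_one_iff] at h2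
        have h3 : orderOf (g ^ j) ∣ Nat.card ↥K := by
          have := orderOf_dvd_natCard (⟨g ^ j, h2⟩ : K)
          rwa [Subgroup.orderOf_mk] at this
        have h4 : orderOf (g ^ j) ∣ m := by rw [← hg]; exact orderOf_pow_dvd j
        have h5 : orderOf (g ^ j) = 1 := Nat.eq_one_of_dvd_coprimes
          (Nat.coprime_of_dvd fun k hk h1 h2 => hcon k hk h1 h2) h4 h3
        rw [← hg]
        exact orderOf_dvd_of_pow_eq_one (orderOf_eq_one_iff.1 h5)
    have h6 : QuotientGroup.mk' K g ∈ S := by rw [hS]; trivial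
    refine ⟨f ⟨_, h6⟩, ?_⟩
    rw [MulEquiv.orderOf_eq, Subgroup.orderOf_mk, h1]

/-- `K` is nilpotent if some prime `p` is isolated in `L` -/
theorem nil_K [Finite L] (h : SameO G L) (K : Subgroup G) [K.Normal] {p : ℕ} (hp : p.Prime)
    (hpL : ∃ a : L, orderOf a = p) (hpK : ¬ p ∣ Nat.card ↥K)
    (hiso : ∀ t : ℕ, t.Prime → t ∣ Nat.card L → t ≠ p → ¬ ∃ a : L, orderOf a = p * t) : Group.IsNilpotent ↥K := by
  refine nilpotent_of_isolated K hp ((h p).2 hpL) hpK fun t ht htK => ?_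
  rw [h]
  refine hiso t ht (prime_of_K h K ht htK) ?_
  rintro rfl
  exact hpK htK

/-- **C'** : an order `m` of `L` which is not an order of `X`, and for every prime `s ∣ m` a Frobenius group `q : e` -/
theorem elim_C' (h : SameO G L) (hst : Struct G X) (hX : IsSimpleGroup X) {m : ℕ} (hI : (Odd m ∧ OddInn X) ∨ AllInn X)
    (hL : ∃ a : L, orderOf a = m) (hno : ¬ ∃ x : X, orderOf x = m) {q e : ℕ} (hF : Frb X q e) (hq : q.Prime) (he : e.Prime)
    (hqe : q ≠ e) (n1 : ∀ s : ℕ, s.Prime → s ∣ m → s ≠ q ∧ s ≠ e ∧ ¬ ∃ a : L, orderOf a = s * e)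
    (n2 : ¬ ∃ a : L, orderOf a = q * e) : False := by
  obtain ⟨K, hK, S, hS, hKs, hC, ⟨f⟩, hd⟩ := hst
  obtain ⟨s, hs, hsm, hsK⟩ := exists_prime_K h K S f hC hI hL hno
  obtain ⟨a1, a2, a3⟩ := n1 s hs hsm
  exact kill_frob K S hX f hs hq he a1 a2 hqe hsK hF (by rw [h]; exact a3) (by rw [h]; exact n2)

/-- **D** : `p` isolated in `L`, an order `m` of `L` which is not an order of `X`, and for every prime `s ∣ m` a Frobenius
group `q : e` with `e s` not an order of `L` -/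
theorem elim_D [Finite L] (h : SameO G L) (hst : Struct G X) (hX : IsSimpleGroup X) {p m : ℕ} (hp : p.Prime) (hp2 : p ≠ 2)
    (hpL : ∃ a : L, orderOf a = p)
    (hiso : ∀ t : ℕ, t.Prime → t ∣ Nat.card L → t ≠ p → ¬ ∃ a : L, orderOf a = p * t)
    (h2L : 2 ∣ Nat.card L)
    (hI : (Odd m ∧ OddInn X) ∨ AllInn X) (hL : ∃ a : L, orderOf a = m) (hno : ¬ ∃ x : X, orderOf x = m)
    (hpX : ∃ x : X, orderOf x = p)
    (n1 : ∀ s : ℕ, s.Prime → s ∣ m → s ≠ p ∧ ∃ q e : ℕ, q.Prime ∧ q ≠ s ∧ Frb X q e ∧ ¬ ∃ a : L, orderOf a = e * s) :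
    False := by
  obtain ⟨K, hK, S, hS, hKs, hC, ⟨f⟩, hd⟩ := hst
  have hpK : ¬ p ∣ Nat.card ↥K := prime_not_dvd h K S f hd hp hp2 hpL (by
    rw [mul_comm]
    exact hiso 2 Nat.prime_two h2L (Ne.symm hp2))
  have hnil := nil_K h K hp hpL hpK hiso
  obtain ⟨s, hs, hsm, hsK⟩ := exists_prime_K h K S f hC hI hL hno
  obtain ⟨hsp, q, e, hq, hqs, hF, hn⟩ := n1 s hs hsm
  refine kill_top K S hX f hnil hs hsK hqs hq hF hpX ((Nat.coprime_primes hp hs).2 (Ne.symm hsp)) ?_ (by rw [h]; exact hn)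
  rw [h]
  exact hiso s hs (prime_of_K h K hs hsK) hsp

end Cfsg.Agent.H385.Sp
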