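import Cfsg.Agent.H385.SpConway
import Cfsg.Agent.H385.SpPairs
import Cfsg.Agent.H385.SpNine
import Cfsg.Agent.H992.Stages.Mathieu
import Cfsg.Agent.SporadicA.M11Facts
import Cfsg.Agent.NotCT.Orders
import Cfsg.Agent.H393.Iso.Mathieu

/-!
# Element orders of the Mathieu groups (helper385)
-/

set_option autoImplicit false

namespace Cfsg.Agent.H385.Sp

open Cfsg Cfsg.Agent.H149.Sp Subgroup
open scoped Pointwise
open Cfsg.Agent.SporadicA.Co0Mono (permCo0)
open Cfsg.Agent.H729.PairBase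

variable {X : Type*} [Group X]

/-! ### `10 ∉ ω(M11), ω(M22), ω(M23)` -/

theorem not_of_not_dvd_cent [Finite X] {p : ℕ} (hp : p.Prime) (_hp2 : p ≠ 2)
    (h : ∀ t : X, orderOf t = 2 → ¬ p ∣ Nat.card (centralizer ({t} : Set X))) : ¬ ∃ x : X, orderOf x = 2 * p := by
  rintro ⟨x, hx⟩
  have h2 : orderOf (x ^ p) = 2 := by
    rw [orderOf_pow' _ hp.ne_zero, hx, Nat.gcd_eq_right (Dvd.intro_left 2 rfl), Nat.mul_div_cancel _ hp.pos]
  have h5 : orderOf (x ^ 2) = p := by
    rw [orderOf_pow' _ (by norm_num), hx, Nat.gcd_eq_right (Dvd.intro p rfl), Nat.mul_div_cancel_left _ (by norm_num)]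
  refine h _ h2 ?_
  have hm : x ^ 2 ∈ centralizer ({x ^ p} : Set X) := by
    rw [mem_centralizer_singleton_iff]
    exact ((Commute.refl x).pow_pow 2 p).eq
  have h6 := orderOf_dvd_natCard (⟨x ^ 2, hm⟩ : centralizer ({x ^ p} : Set X))
  rwa [Subgroup.orderOf_mk, h5] at h6

theorem m11_10 [Finite X] (h : Spor.IsoM11 X) (hs : IsSimpleGroup X) : ¬ ∃ x : X, orderOf x = 10 := by
  refine not_of_not_dvd_cent (p := 5) (by norm_num) (by norm_num) fun t ht => ?_
  exact Cfsg.Agent.SporadicA.M11Facts.not_five_dvd_centralizer ⟨hs, NotCT.Orders.m11 h⟩ ht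

theorem m22_10 (h : Spor.IsoM22 X) : ¬ ∃ x : X, orderOf x = 10 := by
  obtain ⟨e⟩ := h
  rintro ⟨x, hx⟩
  refine not_of_not_dvd_cent (X := Spor.M22) (p := 5) (by norm_num) (by norm_num) (fun t ht => ?_)
    ⟨e x, by rw [MulEquiv.orderOf_eq, hx]⟩
  rw [H992.Stages.card_cent_m22 ht]
  norm_num

theorem m23_10 (h : Spor.IsoM23 X) : ¬ ∃ x : X, orderOf x = 10 := by
  obtain ⟨e⟩ := h
  rintro ⟨x, hx⟩
  refine not_of_not_dvd_cent (X := Spor.M23) (p := 5) (by norm_num) (by norm_num) (fun t ht => ?_)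
    ⟨e x, by rw [MulEquiv.orderOf_eq, hx]⟩
  rw [H992.Stages.card_cent_m23 ht]
  norm_num

/-! ### `22, 55, 253 ∉ ω(M24)` -/

theorem m24_22 (h : Spor.IsoM24 X) : ¬ ∃ x : X, orderOf x = 22 := by
  obtain ⟨e⟩ := h
  rintro ⟨x, hx⟩
  have hN : NoTwo Cfsg.M24 11 := by
    refine NoTwo.of_one (by norm_num) ?_ Cfsg.Agent.H729.PairEleven.orderOf_mu ?_
    · rw [NotCT.Orders.m24 ⟨MulEquiv.refl _⟩]
      norm_num
    · intro u hu hc
      have h2 := pow_orderOf_eq_one u
      rw [hu, pow_two] at h2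
      have h1 := Cfsg.Agent.H729.PairEleven.eq_one_of_comm h2 hc.eq
      rw [h1, orderOf_one] at hu
      norm_num at hu
  have h11 : orderOf (e x ^ 2) = 11 := by rw [orderOf_pow' _ (by norm_num), MulEquiv.orderOf_eq, hx]; rfl
  have h2 : orderOf (e x ^ 11) = 2 := by rw [orderOf_pow' _ (by norm_num), MulEquiv.orderOf_eq, hx]; rfl
  exact hN _ _ h2 h11 ((Commute.refl (e x)).pow_pow 11 2)

theorem m24_mul (h : Spor.IsoM24 X) {p q : ℕ} (hp : P5 p) (hq : P5 q) (hpq : p < q) (h57 : ¬ (p = 5 ∧ q = 7)) :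
    ¬ ∃ x : X, orderOf x = p * q := by
  obtain ⟨e⟩ := h
  exact not_adj_of_emb (permCo0.comp e.toMonoidHom) (CoOneType.Thirteen.permCo0_injective.comp e.injective) hp hq hpq h57

/-! ### self-centralizing Sylow subgroups of prime order -/

/-- a self-centralizing Sylow subgroup of prime order: no element of order `p t` -/
theorem iso_of_sylow [Finite X] {p : ℕ} (hp : p.Prime) (hpp : ¬ p ^ 2 ∣ Nat.card X)
    (h : ∀ P : Sylow p X, centralizer (P : Set X) = (P : Subgroup X)) {t : ℕ} (ht : 1 < t) (htp : ¬ p ∣ t) :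
    ¬ ∃ x : X, orderOf x = p * t := by
  rintro ⟨y, hy⟩
  have hpf : Fact p.Prime := ⟨hp⟩
  have ht0 : t ≠ 0 := by omega
  have hx : orderOf (y ^ t) = p := by
    rw [orderOf_pow' _ ht0, hy, Nat.gcd_eq_right (Dvd.intro_left p rfl), Nat.mul_div_cancel _ (by omega)]
  have hz : orderOf (y ^ p) = t := by
    rw [orderOf_pow' _ hp.ne_zero, hy, Nat.gcd_eq_right (Dvd.intro t rfl), Nat.mul_div_cancel_left _ hp.pos]
  set x := y ^ t with hxd
  have hZ : IsPGroup p (zpowers x) := by
    rw [IsPGroup.iff_card]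
    exact ⟨1, by rw [Nat.card_zpowers, hx, pow_one]⟩
  obtain ⟨P, hP⟩ := hZ.exists_le_sylow
  have hPc : (P : Subgroup X) = zpowers x := by
    obtain ⟨k, hk⟩ := IsPGroup.iff_card.1 P.2
    have h1 : p ∣ Nat.card (P : Subgroup X) := by
      have h0 := card_dvd_of_le hP
      rwa [Nat.card_zpowers, hx] at h0
    have h2 : k < 2 := by
      by_contra hc
      push Not at hc
      exact hpp ((pow_dvd_pow p hc).trans (hk ▸ card_subgroup_dvd_card _))
    have h3 : k = 1 := by
      rcases k with _ | _ | k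
      · rw [hk, pow_zero] at h1
        exact absurd (Nat.dvd_one.1 h1) hp.one_lt.ne'
      · rfl
      · omega
    symm
    apply eq_of_le_of_card_ge hP
    rw [hk, h3, pow_one, Nat.card_zpowers, hx]
  have htc : y ^ p ∈ centralizer (P : Set X) := by
    rw [mem_centralizer_iff]
    intro w hw
    have hw' : w ∈ zpowers x := hPc ▸ hw
    obtain ⟨k, rfl⟩ := mem_zpowers_iff.1 hw'
    exact (((Commute.refl y).pow_pow t p).zpow_left k).eq
  rw [h P, hPc] at htc
  have h4 : orderOf (y ^ p) ∣ Nat.card (zpowers x) := by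
    have := orderOf_dvd_natCard (⟨y ^ p, htc⟩ : zpowers x)
    rwa [← orderOf_coe] at this
  rw [hz, Nat.card_zpowers, hx] at h4
  rcases (Nat.dvd_prime hp).1 h4 with h5 | h5
  · omega
  · exact htp (by rw [h5])

/-! ### `M12` -/

theorem m12_iso [Finite X] (h : Spor.IsoM12 X) (hs : IsSimpleGroup X) {t : ℕ} (ht : 1 < t) (htp : ¬ 11 ∣ t) :
    ¬ ∃ x : X, orderOf x = 11 * t :=
  iso_of_sylow (by norm_num) (by rw [NotCT.Orders.m12 h]; norm_num)
    (fun P => MTwelve.SylowEleven.centralizer_sylow11 (NotCT.Orders.m12 h) P) ht htp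

theorem m12_16 (h : Spor.IsoM12 X) : ¬ ∃ x : X, orderOf x = 16 := by
  obtain ⟨e⟩ := h
  rintro ⟨x, hx⟩
  obtain ⟨σ, hσ⟩ : ∃ σ : Spor.M12, σ = e x := ⟨_, rfl⟩
  have ho : orderOf (σ : Equiv.Perm GolayPt) = 16 := by rw [Subgroup.orderOf_coe, hσ, MulEquiv.orderOf_eq, hx]
  set τ : Equiv.Perm GolayPt := (σ : Equiv.Perm GolayPt) with hτ
  have hst : τ • Spor.squareDodecad = Spor.squareDodecad := σ.2.2
  have hcard : Spor.squareDodecad.card = 12 := by decide +kernel
  have hcard' : Spor.squareDodecadᶜ.card = 12 := by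
    rw [Finset.card_compl, hcard]
    decide +kernel
  have key : ∀ D : Finset GolayPt, D.card = 12 → (∀ p, p ∈ D → τ p ∈ D) → ∀ p ∈ D, (τ ^ 8) p = p := by
    intro D hD hinv p hp
    have h1 : Function.minimalPeriod τ p ∣ 16 := by
      apply Function.IsPeriodicPt.minimalPeriod_dvd
      show τ^[16] p = p
      rw [← Equiv.Perm.coe_pow, ← ho, pow_orderOf_eq_one]
      rfl
    have hinv' : ∀ n, (τ^[n]) p ∈ D := by
      intro n
      induction n with
      | zero => exact hp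
      | succ n ih => rw [Function.iterate_succ_apply']; exact hinv _ ih
    have h2 : Function.minimalPeriod τ p ≤ 12 := by
      rw [← hD, ← Finset.card_range (Function.minimalPeriod τ p)]
      refine Finset.card_le_card_of_injOn (fun n => (τ^[n]) p) (fun n _ => hinv' n) ?_
      intro a ha b hb hab
      exact (Function.iterate_injOn_Iio_minimalPeriod (f := τ) (x := p)) (by simpa using ha) (by simpa using hb) hab
    have h3 : Function.minimalPeriod τ p ∣ 8 := by
      obtain ⟨k, hk, hk'⟩ := (Nat.dvd_prime_pow Nat.prime_two (m := 4)).1 (by simpa using h1)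
      rw [hk'] at h2 ⊢
      have : k ≤ 3 := by
        by_contra hc
        have h4 : 2 ^ 4 ≤ 2 ^ k := Nat.pow_le_pow_right (by norm_num) (by omega)
        omega
      exact pow_dvd_pow 2 this
    have h4 : Function.IsPeriodicPt τ 8 p := (Function.isPeriodicPt_minimalPeriod τ p).trans_dvd h3
    have h5 : τ^[8] p = p := h4
    rwa [← Equiv.Perm.coe_pow] at h5
  have h8 : τ ^ 8 = 1 := by
    ext1 p
    rw [Equiv.Perm.one_apply]
    by_cases hp : p ∈ Spor.squareDodecad
    · refine key _ hcard (fun q hq => ?_) p hp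
      rw [← hst]
      exact Finset.smul_mem_smul_finset hq
    · refine key _ hcard' (fun q hq => ?_) p (Finset.mem_compl.2 hp)
      rw [Finset.mem_compl] at hq ⊢
      intro h9
      rw [← hst] at h9
      exact hq ((Finset.smul_mem_smul_finset_iff τ).1 h9)
  have h9 := orderOf_dvd_of_pow_eq_one h8
  rw [ho] at h9
  norm_num at h9

end Cfsg.Agent.H385.Sp
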