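import Cfsg.Agent.H385.SpMath
import Cfsg.Agent.H385.SpFrb
import Cfsg.Agent.H61.SpAltFb
import Cfsg.Agent.H94.Sp.AC
import Cfsg.Agent.S2060
import Cfsg.Agent.S2063

/-!
# The pairs with `L` a Mathieu group (helper385)
-/

set_option autoImplicit false
set_option linter.unusedSectionVars false

namespace Cfsg.Agent.H385.Sp

open Cfsg Cfsg.Agent.H149.Sp Subgroup Cfsg.Agent.H403
open Cfsg.Agent.H94.PG.Sp

universe u v w

theorem frb_of_fb {X : Type*} [Group X] {r e : ℕ} (hr : r.Prime) (h : Cfsg.Agent.H61.SpAlt.Fb r e X) : Frb X r e := by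
  obtain ⟨a, x, k, ha, hx, hc, hk⟩ := h
  refine frb_of_conj hr a x ha hx hc fun i h0 hi => ?_
  have := hk i hi h0
  rwa [Nat.mod_eq_of_lt hr.one_lt] at this

theorem frb_m11 {X : Type*} [Group X] (h : Spor.IsoM11 X) : Frb X 11 5 := by
  obtain ⟨e⟩ := h
  exact (frb_of_fb (by norm_num) Cfsg.Agent.H61.SpAlt.fb_M11_eleven).congr e.symm

theorem frb_m12 {X : Type*} [Group X] (h : Spor.IsoM12 X) : Frb X 11 5 := by
  obtain ⟨e⟩ := h
  exact (frb_of_fb (by norm_num) Cfsg.Agent.H61.SpAlt.fb_M12_eleven).congr e.symm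

theorem exists_of_nr {X : Type*} [Group X] {r : ℕ} (hr2 : r ≠ 2) (h : Nr X r) : ∃ x : X, orderOf x = 2 * r := by
  rcases h with h | ⟨hr, -, -, x, y, hx, hy, hc⟩
  · exact absurd h hr2
  · refine ⟨y * x, ?_⟩
    rw [hc.symm.orderOf_mul_eq_mul_orderOf_of_coprime, hx, hy]
    rw [hx, hy]
    exact (Nat.coprime_primes Nat.prime_two hr).2 hr2.symm

theorem exists_of_card {L : Type*} [Group L] [Finite L] {p N : ℕ} (hp : p.Prime) (hN : Nat.card L = N) (hd : p ∣ N) :
    ∃ a : L, orderOf a = p := by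
  have := Fact.mk hp
  exact exists_prime_orderOf_dvd_card' p (by rwa [hN])

theorem allInn_m11 {X : Type*} [Group X] (h : Spor.IsoM11 X) : AllInn X := by
  obtain ⟨e⟩ := h
  exact (allInn_of_card S2060.result).congr e.symm

theorem allInn_m23 {X : Type*} [Group X] (h : Spor.IsoM23 X) : AllInn X := by
  obtain ⟨e⟩ := h
  exact (allInn_of_card S2063.result).congr e.symm

variable {L : Type u} [Group L] [Finite L] {G : Type v} [Group G] [Finite G] {X : Type w} [Group X] [Finite X]

/-! ### `L = M11` -/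

theorem m11_m12 (hL : Spor.IsoM11 L) (hs : IsSimpleGroup L) (hX : Spor.IsoM12 X) (h : SameO G L) (hst : Struct G X) :
    False :=
  elim_A h hst (m := 10) (by norm_num)
    (exists_of_nr (r := 5) (by norm_num) (nr_m12' hX (by norm_num) (by norm_num) (by norm_num))) (m11_10 hL hs)

/-! ### `L = M12` -/

theorem m12_m11 (h8 : Frb X 3 8) (hL : Spor.IsoM12 L) (hs : IsSimpleGroup L) (hX : Spor.IsoM11 X)
    (hXs : IsSimpleGroup X) (h : SameO G L) (hst : Struct G X) : False := by
  have hc := NotCT.Orders.m12 hL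
  have hcX := NotCT.Orders.m11 hX
  refine elim_D h hst hXs (p := 11) (m := 10) (by norm_num) (by norm_num)
    (exists_of_card (by norm_num) hc (by norm_num)) ?_ (by rw [hc]; norm_num) (Or.inr (allInn_m11 hX))
    (exists_of_nr (r := 5) (by norm_num) (nr_m12' hL (by norm_num) (by norm_num) (by norm_num))) (m11_10 hX hXs)
    (exists_of_card (by norm_num) hcX (by norm_num)) ?_
  · intro t ht htd ht11
    exact m12_iso hL hs ht.one_lt fun hd => ht11 ((Nat.prime_dvd_prime_iff_eq (by norm_num) ht).1 hd).symm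
  · intro s hs' hsd
    have h25 : s = 2 ∨ s = 5 := by
      have h1 : s ∣ 2 * 5 := hsd
      rcases (Nat.Prime.dvd_mul hs').1 h1 with h2 | h2
      · exact Or.inl ((Nat.prime_dvd_prime_iff_eq hs' Nat.prime_two).1 h2)
      · exact Or.inr ((Nat.prime_dvd_prime_iff_eq hs' (by norm_num)).1 h2)
    rcases h25 with rfl | rfl
    · exact ⟨by norm_num, 3, 8, by norm_num, by norm_num, h8, m12_16 hL⟩
    · refine ⟨by norm_num, 11, 5, by norm_num, by norm_num, frb_m11 hX, ?_⟩
      rintro ⟨a, ha⟩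
      have h1 := orderOf_dvd_natCard a
      rw [ha, hc] at h1
      norm_num at h1

/-! ### `L = M22` -/

theorem m22_elim (hL : Spor.IsoM22 L) (hXs : IsSimpleGroup X) (hO : OddInn X) (h7 : ¬ 7 ∣ Nat.card X)
    (hF : Frb X 11 5) (h : SameO G L) (hst : Struct G X) : False :=
  elim_C h hst hXs hO (s := 7) (q := 11) (e := 5) (by norm_num) (by norm_num)
    (exists_of_card (by norm_num) (NotCT.Orders.m22 hL) (by norm_num)) h7 hF (by norm_num) (by norm_num) (by norm_num)
    (by norm_num) (by norm_num) (fun h1 => (lemb_m22 hL).not_mul p5 p7 (by norm_num) (by simpa [mul_comm] using h1))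
    (fun h1 => (lemb_m22 hL).not_mul p5 p11 (by norm_num) (by simpa [mul_comm] using h1))

theorem m22_m11 (hL : Spor.IsoM22 L) (hX : Spor.IsoM11 X) (hXs : IsSimpleGroup X) (hO : OddInn X) (h : SameO G L)
    (hst : Struct G X) : False :=
  m22_elim hL hXs hO (by rw [NotCT.Orders.m11 hX]; norm_num) (frb_m11 hX) h hst

theorem m22_m12 (hL : Spor.IsoM22 L) (hX : Spor.IsoM12 X) (hXs : IsSimpleGroup X) (hO : OddInn X) (h : SameO G L)
    (hst : Struct G X) : False :=
  m22_elim hL hXs hO (by rw [NotCT.Orders.m12 hX]; norm_num) (frb_m12 hX) h hst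

theorem m22_hs (hL : Spor.IsoM22 L) (hX : Spor.IsoHS X) (h : SameO G L) (hst : Struct G X) : False :=
  elim_A h hst (m := 10) (by norm_num)
    (exists_of_nr (r := 5) (by norm_num) (nr_hs hX (by norm_num) (by norm_num) (by norm_num))) (m22_10 hL)

theorem m22_mcl (hL : Spor.IsoM22 L) (hX : Spor.IsoMcL X) (h : SameO G L) (hst : Struct G X) : False :=
  elim_A h hst (m := 10) (by norm_num)
    (exists_of_nr (r := 5) (by norm_num) (nr_mcl hX (by norm_num) (by norm_num) (by norm_num))) (m22_10 hL)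

/-! ### `L = M23` -/

theorem m23_m24 (hL : Spor.IsoM23 L) (hX : Spor.IsoM24 X) (h : SameO G L) (hst : Struct G X) : False :=
  elim_A h hst (m := 10) (by norm_num)
    (exists_of_nr (r := 5) (by norm_num) (nr_m24' hX (by norm_num) (by norm_num) (by norm_num))) (m23_10 hL)

theorem m23_co2 (hL : Spor.IsoM23 L) (hX : Spor.IsoCo2 X) (h : SameO G L) (hst : Struct G X) : False :=
  elim_A h hst (m := 10) (by norm_num)
    (exists_of_nr (r := 5) (by norm_num) (nr_co2 hX (by norm_num) (by norm_num) (by norm_num))) (m23_10 hL)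

theorem m23_co3 (hL : Spor.IsoM23 L) (hX : Spor.IsoCo3 X) (h : SameO G L) (hst : Struct G X) : False :=
  elim_A h hst (m := 10) (by norm_num)
    (exists_of_nr (r := 5) (by norm_num) (nr_co3 hX (by norm_num) (by norm_num) (by norm_num))) (m23_10 hL)

/-! ### `L = M24` -/

theorem m24_m23 (hL : Spor.IsoM24 L) (hX : Spor.IsoM23 X) (hXs : IsSimpleGroup X) (h : SameO G L)
    (hst : Struct G X) : False := by
  refine elim_C' h hst hXs (m := 10) (Or.inr (allInn_m23 hX))
    (exists_of_nr (r := 5) (by norm_num) (nr_m24' hL (by norm_num) (by norm_num) (by norm_num))) (m23_10 hX)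
    (q := 23) (e := 11) (frb_m23 hX) (by norm_num) (by norm_num) (by norm_num) ?_
    (fun h1 => m24_mul hL p11 p23 (by norm_num) (by norm_num) (by simpa [mul_comm] using h1))
  intro s hs' hsd
  have h25 : s = 2 ∨ s = 5 := by
    have h1 : s ∣ 2 * 5 := hsd
    rcases (Nat.Prime.dvd_mul hs').1 h1 with h2 | h2
    · exact Or.inl ((Nat.prime_dvd_prime_iff_eq hs' Nat.prime_two).1 h2)
    · exact Or.inr ((Nat.prime_dvd_prime_iff_eq hs' (by norm_num)).1 h2)
  rcases h25 with rfl | rfl
  · exact ⟨by norm_num, by norm_num, m24_22 hL⟩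
  · exact ⟨by norm_num, by norm_num, m24_mul hL p5 p11 (by norm_num) (by norm_num)⟩

theorem m24_co3 (hL : Spor.IsoM24 L) (hX : Spor.IsoCo3 X) (h : SameO G L) (hst : Struct G X) : False :=
  elim_A h hst (m := 22) (by norm_num)
    (exists_of_nr (r := 11) (by norm_num) (nr_co3 hX (by norm_num) (by norm_num) (by norm_num))) (m24_22 hL)

theorem m24_co2 (hL : Spor.IsoM24 L) (h9 : ∃ x : X, orderOf x = 9) (h : SameO G L) (hst : Struct G X) : False :=
  elim_A h hst (m := 9) (by norm_num) h9 (m24_nine hL)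

end Cfsg.Agent.H385.Sp
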