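import Cfsg.Agent.H385.SpSpor
import Cfsg.Agent.H998.SpSmallF
import Cfsg.Agent.H815.SpMcL
import Cfsg.Agent.H806.RecTwoThree
import Cfsg.Agent.H161.Rec.RowFi24
import Cfsg.Agent.H436.Names
import Cfsg.Agent.H385.SpHNJ1
import Cfsg.Agent.H998.SpHN

/-!
# From recognition by spectrum to the composition factors (helper385)
-/

set_option autoImplicit false
set_option linter.unusedSectionVars false

namespace Cfsg.Agent.H385.Sp

open Cfsg Subgroup Cfsg.Agent.H403 Cfsg.Agent.OrdDiv Cfsg.Agent.H58.Rec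

universe u v w

theorem nameHyp_of (T : OrderTable.{u}) (hk : ∀ (S : Type u) [Group S] [Finite S] [IsSimpleGroup S], IsKnownSimple' S) :
    NameHyp.{u} := fun S _ _ _ hna => Cfsg.Agent.H436.exists_named T (hk S) fun hc => hna ⟨⟨hc⟩⟩

/-- if `G` is simple, then `X` is `G` -/
theorem iso_of_struct {G : Type v} [Group G] [Finite G] {L : Type u} [Group L] (hLs : IsSimpleGroup L) (e : G ≃* L)
    {X : Type w} [Group X] (hX : Nontrivial X) (hst : Struct G X) : Nonempty (X ≃* L) := by
  have hG : IsSimpleGroup G := (MulEquiv.isSimpleGroup_congr e).2 hLs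
  obtain ⟨K, hK, S, hS, -, -, ⟨f⟩, -⟩ := hst
  have hSt : S ≠ ⊥ := by
    rintro rfl
    have : Subsingleton X := f.toEquiv.symm.subsingleton
    exact not_subsingleton X this
  rcases hK.eq_bot_or_eq_top with rfl | rfl
  · have hQ : IsSimpleGroup (G ⧸ (⊥ : Subgroup G)) := (MulEquiv.isSimpleGroup_congr QuotientGroup.quotientBot).2 hG
    rcases hS.eq_bot_or_eq_top with rfl | rfl
    · exact absurd rfl hSt
    · exact ⟨((f.symm.trans Subgroup.topEquiv).trans QuotientGroup.quotientBot).trans e⟩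
  · exfalso
    apply hSt
    have : Subsingleton (G ⧸ (⊤ : Subgroup G)) := QuotientGroup.subsingleton_quotient_top
    exact Subsingleton.elim _ _

theorem false_of_card {G : Type v} [Group G] [Finite G] {L : Type u} [Group L] (hLs : IsSimpleGroup L)
    (e : Nonempty (G ≃* L)) {X : Type w} [Group X] (hX : Nontrivial X) (hst : Struct G X) {m n : ℕ}
    (hm : Nat.card L = m) (hn : Nat.card X = n) (hmn : m ≠ n) : False := by
  obtain ⟨e⟩ := e
  obtain ⟨f⟩ := iso_of_struct hLs e hX hst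
  exact hmn (by rw [← hm, ← hn, Nat.card_congr f.toEquiv])

variable {L : Type u} [Group L] [Finite L] {G : Type v} [Group G] [Finite G] {X : Type w} [Group X] [Finite X]

theorem fi23_false (hN : NameHyp.{v}) (hLs : IsSimpleGroup L) (hXs : IsSimpleGroup X) (hL : Spor.IsoFi23 L)
    (hX : Spor.IsoM23 X ∨ Spor.IsoM24 X ∨ Spor.IsoCo1 X ∨ Spor.IsoCo2 X ∨ Spor.IsoCo3 X) (h : SameO G L)
    (hst : Struct G X) : False := by
  have e := Cfsg.Agent.H806.Rec.rec_fi23 hN hL h
  have hc := NotCT.Orders.fi23 hL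
  have hnt : Nontrivial X := hXs.toNontrivial
  rcases hX with hX | hX | hX | hX | hX
  · exact false_of_card hLs e hnt hst hc (NotCT.Orders.m23 hX) (by norm_num)
  · exact false_of_card hLs e hnt hst hc (NotCT.Orders.m24 hX) (by norm_num)
  · exact false_of_card hLs e hnt hst hc (NotCT.Orders.co1 hX) (by norm_num)
  · exact false_of_card hLs e hnt hst hc (NotCT.Orders.co2 hX) (by norm_num)
  · exact false_of_card hLs e hnt hst hc (NotCT.Orders.co3 hX) (by norm_num)

theorem fi24_false (hN : NameHyp.{v}) (hLs : IsSimpleGroup L) (hXs : IsSimpleGroup X) (hL : Spor.IsoFi24' L)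
    (hX : Spor.IsoRu X) (h : SameO G L) (hst : Struct G X) : False :=
  false_of_card hLs (Cfsg.Agent.H161.Rec.rec_fi24 hN hL h) hXs.toNontrivial hst (NotCT.Orders.fi24 hL)
    (NotCT.Orders.ru hX) (by norm_num)

/-- the pending facts, from the pairs `Fi22`, `Suz` and the row `HN` -/
theorem pend (hN : NameHyp.{v}) (rFi22 : Spor.IsoFi22 L → Spor.IsoSuz X → False)
    (hLs : IsSimpleGroup L) (hXs : IsSimpleGroup X) (hO : OddInn X) (h : SameO G L) (hst : Struct G X) : Pend L X where
  hs_fifteen hL := Cfsg.Agent.H998.SpSmallF.hs_fifteen hL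
  mcl_nine hL := Cfsg.Agent.H815.SpMcL.mcl_nine hL
  co2_nine' hL := Cfsg.Agent.H815.SpMcL.co2_nine hL
  co3_nine hL := Cfsg.Agent.H815.SpMcL.co3_nine hL
  co2_nine hX := Cfsg.Agent.H815.SpMcL.co2_nine hX
  fi22 hL hX := rFi22 hL hX
  fi23 hL hX := fi23_false hN hLs hXs hL hX h hst
  fi24 hL hX := fi24_false hN hLs hXs hL hX h hst
  hn hL hX := hn_j1 (Cfsg.Agent.H998.SpHN.hn_18 hL) (fun t ht _ h19 => Cfsg.Agent.H998.SpHN.hn_iso19_prime hL ht h19)
    hL hLs hX hXs hO h hst

end Cfsg.Agent.H385.Sp
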