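import Cfsg.Agent.H385.SpTable
import Cfsg.Agent.H385.SpPairC
import Cfsg.Agent.H385.SpMEight
import Cfsg.Agent.H385.SpFifteen
import Cfsg.Agent.H385.SpHNFour
import Cfsg.Agent.H385.SpSuzNa
import Cfsg.Agent.H815.CoSep
import Cfsg.Agent.H902.Iso

/-!
# `L` sporadic: the sporadic composition factors (helper385)

`Pend` collects the facts proved in the files of helper423, helper371, helper815, helper998.
-/

set_option autoImplicit false
set_option linter.unusedSectionVars false
set_option linter.unusedVariables false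
set_option maxRecDepth 100000

namespace Cfsg.Agent.H385.Sp

open Subgroup Cfsg Cfsg.Agent.H403 Cfsg.Agent.OrdDiv

universe u v w

/-- the facts proved elsewhere -/
structure Pend (L : Type u) [Group L] (X : Type w) [Group X] : Prop where
  hs_fifteen : Spor.IsoHS L → ∃ x : L, orderOf x = 15
  mcl_nine : Spor.IsoMcL L → ∃ x : L, orderOf x = 9
  co2_nine' : Spor.IsoCo2 L → ∃ x : L, orderOf x = 9
  co3_nine : Spor.IsoCo3 L → ∃ x : L, orderOf x = 9
  co2_nine : Spor.IsoCo2 X → ∃ x : X, orderOf x = 9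
  fi22 : Spor.IsoFi22 L → Spor.IsoSuz X → False
  fi23 : Spor.IsoFi23 L → Spor.IsoM23 X ∨ Spor.IsoM24 X ∨ Spor.IsoCo1 X ∨ Spor.IsoCo2 X ∨ Spor.IsoCo3 X → False
  fi24 : Spor.IsoFi24' L → Spor.IsoRu X → False
  hn : Spor.IsoHN L → Spor.IsoJ1 X → False

variable {L : Type u} [Group L] [Finite L] {G : Type v} [Group G] [Finite G] {X : Type w} [Group X] [Finite X]

theorem co3_co2_28 (hL : Spor.IsoCo3 L) (hX : Spor.IsoCo2 X) (h : SameO G L) (hst : Struct G X) : False := by
  obtain ⟨e⟩ := hL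
  obtain ⟨f⟩ := hX
  obtain ⟨⟨x, hx⟩, hno⟩ := Cfsg.Agent.H815.CoSep.sep28
  refine elim_A h hst (m := 28) (by norm_num) ⟨f.symm x, by rw [MulEquiv.orderOf_eq, hx]⟩ ?_
  rintro ⟨a, ha⟩
  exact hno ⟨e a, by rw [MulEquiv.orderOf_eq, ha]⟩

theorem row_m11 (P : Pend L X) (hL : Spor.IsoM11 L) (hLs : IsSimpleGroup L) (hXs : IsSimpleGroup X) (hO : OddInn X)
    (h : SameO G L) (hst : Struct G X) (hsp : Cfsg.IsSporadic X) (T : OrderTable.{w}) (hk : IsKnownSimple' X) :
    Nonempty (X ≃* L) := by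
  obtain ⟨g, hg, hX⟩ := exists_real h hst hsp T hk (NotCT.Orders.m11 hL) (P2 := [11])
    (far_of_na (p := 11) (by norm_num) (by norm_num) (NotCT.Orders.m11 hL) (by norm_num) (H393.Iso.na_m11 hL))
    (l := [.m11, .m12]) (by decide +kernel)
  simp only [List.mem_cons, List.not_mem_nil, or_false] at hg
  rcases hg with rfl | rfl
  · exact H902.Iso.real_unique .m11 hX hL
  · have hX : Spor.IsoM12 X := hX
    exact (m11_m12 hL hLs hX h hst).elim

theorem row_m12 (P : Pend L X) (hL : Spor.IsoM12 L) (hLs : IsSimpleGroup L) (hXs : IsSimpleGroup X) (hO : OddInn X)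
    (h : SameO G L) (hst : Struct G X) (hsp : Cfsg.IsSporadic X) (T : OrderTable.{w}) (hk : IsKnownSimple' X) :
    Nonempty (X ≃* L) := by
  obtain ⟨g, hg, hX⟩ := exists_real h hst hsp T hk (NotCT.Orders.m12 hL) (P2 := [11])
    (far_of_na (p := 11) (by norm_num) (by norm_num) (NotCT.Orders.m12 hL) (by norm_num) (H393.Iso.na_m12 hL))
    (l := [.m12, .m11]) (by decide +kernel)
  simp only [List.mem_cons, List.not_mem_nil, or_false] at hg
  rcases hg with rfl | rfl
  · exact H902.Iso.real_unique .m12 hX hL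
  · have hX : Spor.IsoM11 X := hX
    exact (m12_m11 (frb_m11_eight hX) hL hLs hX hXs h hst).elim

theorem row_m22 (P : Pend L X) (hL : Spor.IsoM22 L) (hLs : IsSimpleGroup L) (hXs : IsSimpleGroup X) (hO : OddInn X)
    (h : SameO G L) (hst : Struct G X) (hsp : Cfsg.IsSporadic X) (T : OrderTable.{w}) (hk : IsKnownSimple' X) :
    Nonempty (X ≃* L) := by
  obtain ⟨g, hg, hX⟩ := exists_real h hst hsp T hk (NotCT.Orders.m22 hL) (P2 := [11])
    (far_of_na (p := 11) (by norm_num) (by norm_num) (NotCT.Orders.m22 hL) (by norm_num) (H393.Iso.na_m22 hL))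
    (l := [.m22, .m11, .m12, .mcl, .hs]) (by decide +kernel)
  simp only [List.mem_cons, List.not_mem_nil, or_false] at hg
  rcases hg with rfl | rfl | rfl | rfl | rfl
  · exact H902.Iso.real_unique .m22 hX hL
  · have hX : Spor.IsoM11 X := hX
    exact (m22_m11 hL hX hXs hO h hst).elim
  · have hX : Spor.IsoM12 X := hX
    exact (m22_m12 hL hX hXs hO h hst).elim
  · have hX : Spor.IsoMcL X := hX
    exact (m22_mcl hL hX h hst).elim
  · have hX : Spor.IsoHS X := hX
    exact (m22_hs hL hX h hst).elim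

theorem row_m23 (P : Pend L X) (hL : Spor.IsoM23 L) (hLs : IsSimpleGroup L) (hXs : IsSimpleGroup X) (hO : OddInn X)
    (h : SameO G L) (hst : Struct G X) (hsp : Cfsg.IsSporadic X) (T : OrderTable.{w}) (hk : IsKnownSimple' X) :
    Nonempty (X ≃* L) := by
  obtain ⟨g, hg, hX⟩ := exists_real h hst hsp T hk (NotCT.Orders.m23 hL) (P2 := [23])
    (far_of_na (p := 23) (by norm_num) (by norm_num) (NotCT.Orders.m23 hL) (by norm_num) (H393.Iso.na_m23 hL))
    (l := [.m23, .m24, .co2, .co3]) (by decide +kernel)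
  simp only [List.mem_cons, List.not_mem_nil, or_false] at hg
  rcases hg with rfl | rfl | rfl | rfl
  · exact H902.Iso.real_unique .m23 hX hL
  · have hX : Spor.IsoM24 X := hX
    exact (m23_m24 hL hX h hst).elim
  · have hX : Spor.IsoCo2 X := hX
    exact (m23_co2 hL hX h hst).elim
  · have hX : Spor.IsoCo3 X := hX
    exact (m23_co3 hL hX h hst).elim

theorem row_m24 (P : Pend L X) (hL : Spor.IsoM24 L) (hLs : IsSimpleGroup L) (hXs : IsSimpleGroup X) (hO : OddInn X)
    (h : SameO G L) (hst : Struct G X) (hsp : Cfsg.IsSporadic X) (T : OrderTable.{w}) (hk : IsKnownSimple' X) :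
    Nonempty (X ≃* L) := by
  obtain ⟨g, hg, hX⟩ := exists_real h hst hsp T hk (NotCT.Orders.m24 hL) (P2 := [23])
    (far_of_na (p := 23) (by norm_num) (by norm_num) (NotCT.Orders.m24 hL) (by norm_num) (H393.Iso.na_m24 hL))
    (l := [.m24, .m23, .co2, .co3]) (by decide +kernel)
  simp only [List.mem_cons, List.not_mem_nil, or_false] at hg
  rcases hg with rfl | rfl | rfl | rfl
  · exact H902.Iso.real_unique .m24 hX hL
  · have hX : Spor.IsoM23 X := hX
    exact (m24_m23 hL hX hXs h hst).elim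
  · have hX : Spor.IsoCo2 X := hX
    exact (m24_co2 hL (P.co2_nine hX) h hst).elim
  · have hX : Spor.IsoCo3 X := hX
    exact (m24_co3 hL hX h hst).elim

theorem row_j1 (P : Pend L X) (hL : Spor.IsoJ1 L) (hLs : IsSimpleGroup L) (hXs : IsSimpleGroup X) (hO : OddInn X)
    (h : SameO G L) (hst : Struct G X) (hsp : Cfsg.IsSporadic X) (T : OrderTable.{w}) (hk : IsKnownSimple' X) :
    Nonempty (X ≃* L) := by
  obtain ⟨g, hg, hX⟩ := exists_real h hst hsp T hk (NotCT.Orders.j1 hL) (P2 := [19])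
    (far_of_na (p := 19) (by norm_num) (by norm_num) (NotCT.Orders.j1 hL) (by norm_num) (H393.Iso.na_j1 hL))
    (l := [.j1, .hn]) (by decide +kernel)
  simp only [List.mem_cons, List.not_mem_nil, or_false] at hg
  rcases hg with rfl | rfl
  · exact H902.Iso.real_unique .j1 hX hL
  · have hX : Spor.IsoHN X := hX
    exact (j1_hn (hn_four hXs hX) hL h hst).elim

theorem row_j2 (P : Pend L X) (hL : Spor.IsoJ2 L) (hLs : IsSimpleGroup L) (hXs : IsSimpleGroup X) (hO : OddInn X)
    (h : SameO G L) (hst : Struct G X) (hsp : Cfsg.IsSporadic X) (T : OrderTable.{w}) (hk : IsKnownSimple' X) :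
    Nonempty (X ≃* L) := by
  obtain ⟨g, hg, hX⟩ := exists_real h hst hsp T hk (NotCT.Orders.j2 hL) (P2 := [7])
    (far_of_na (p := 7) (by norm_num) (by norm_num) (NotCT.Orders.j2 hL) (by norm_num) (H393.Iso.na_j2 hL))
    (l := [.j2]) (by decide +kernel)
  rw [List.mem_singleton] at hg
  subst hg
  exact H902.Iso.real_unique .j2 hX hL

theorem row_j3 (P : Pend L X) (hL : Spor.IsoJ3 L) (hLs : IsSimpleGroup L) (hXs : IsSimpleGroup X) (hO : OddInn X)
    (h : SameO G L) (hst : Struct G X) (hsp : Cfsg.IsSporadic X) (T : OrderTable.{w}) (hk : IsKnownSimple' X) :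
    Nonempty (X ≃* L) := by
  obtain ⟨g, hg, hX⟩ := exists_real h hst hsp T hk (NotCT.Orders.j3 hL) (P2 := [19])
    (far_of_na (p := 19) (by norm_num) (by norm_num) (NotCT.Orders.j3 hL) (by norm_num) (H393.Iso.na_j3 hL))
    (l := [.j3]) (by decide +kernel)
  rw [List.mem_singleton] at hg
  subst hg
  exact H902.Iso.real_unique .j3 hX hL

theorem row_j4 (P : Pend L X) (hL : Spor.IsoJ4 L) (hLs : IsSimpleGroup L) (hXs : IsSimpleGroup X) (hO : OddInn X)
    (h : SameO G L) (hst : Struct G X) (hsp : Cfsg.IsSporadic X) (T : OrderTable.{w}) (hk : IsKnownSimple' X) :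
    Nonempty (X ≃* L) := by
  obtain ⟨g, hg, hX⟩ := exists_real h hst hsp T hk (NotCT.Orders.j4 hL) (P2 := [37])
    (far_of_na (p := 37) (by norm_num) (by norm_num) (NotCT.Orders.j4 hL) (by norm_num) (H393.Iso.na_j4_37 hL))
    (l := [.j4]) (by decide +kernel)
  rw [List.mem_singleton] at hg
  subst hg
  exact H902.Iso.real_unique .j4 hX hL

theorem row_co1 (P : Pend L X) (hL : Spor.IsoCo1 L) (hLs : IsSimpleGroup L) (hXs : IsSimpleGroup X) (hO : OddInn X)
    (h : SameO G L) (hst : Struct G X) (hsp : Cfsg.IsSporadic X) (T : OrderTable.{w}) (hk : IsKnownSimple' X) :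
    Nonempty (X ≃* L) := by
  obtain ⟨g, hg, hX⟩ := exists_real h hst hsp T hk (NotCT.Orders.co1 hL) (P2 := [23])
    (far_of_na (p := 23) (by norm_num) (by norm_num) (NotCT.Orders.co1 hL) (by norm_num) (H393.Iso.na_co1 hL))
    (l := [.co1, .m23, .m24, .co2, .co3]) (by decide +kernel)
  simp only [List.mem_cons, List.not_mem_nil, or_false] at hg
  rcases hg with rfl | rfl | rfl | rfl | rfl
  · exact H902.Iso.real_unique .co1 hX hL
  · have hX : Spor.IsoM23 X := hX
    exact (co1_m23 hL hX hXs hO h hst).elim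
  · have hX : Spor.IsoM24 X := hX
    exact (co1_m24 hL hX hXs hO h hst).elim
  · have hX : Spor.IsoCo2 X := hX
    exact (co1_co2 hL hX hXs hO h hst).elim
  · have hX : Spor.IsoCo3 X := hX
    exact (co1_co3 hL hX hXs hO h hst).elim

theorem row_co2 (P : Pend L X) (hL : Spor.IsoCo2 L) (hLs : IsSimpleGroup L) (hXs : IsSimpleGroup X) (hO : OddInn X)
    (h : SameO G L) (hst : Struct G X) (hsp : Cfsg.IsSporadic X) (T : OrderTable.{w}) (hk : IsKnownSimple' X) :
    Nonempty (X ≃* L) := by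
  obtain ⟨g, hg, hX⟩ := exists_real h hst hsp T hk (NotCT.Orders.co2 hL) (P2 := [23])
    (far_of_na (p := 23) (by norm_num) (by norm_num) (NotCT.Orders.co2 hL) (by norm_num) (H393.Iso.na_co2 hL))
    (l := [.co2, .m23, .m24, .co3]) (by decide +kernel)
  simp only [List.mem_cons, List.not_mem_nil, or_false] at hg
  rcases hg with rfl | rfl | rfl | rfl
  · exact H902.Iso.real_unique .co2 hX hL
  · have hX : Spor.IsoM23 X := hX
    exact (lemb_m23' (P.co2_nine' hL) (lemb_co2 hL) hX hXs hO h hst).elim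
  · have hX : Spor.IsoM24 X := hX
    exact (lemb_m24' (P.co2_nine' hL) (lemb_co2 hL) hX hXs hO h hst).elim
  · have hX : Spor.IsoCo3 X := hX
    exact (co2_co3 hL hX h hst).elim

theorem row_co3 (P : Pend L X) (hL : Spor.IsoCo3 L) (hLs : IsSimpleGroup L) (hXs : IsSimpleGroup X) (hO : OddInn X)
    (h : SameO G L) (hst : Struct G X) (hsp : Cfsg.IsSporadic X) (T : OrderTable.{w}) (hk : IsKnownSimple' X) :
    Nonempty (X ≃* L) := by
  obtain ⟨g, hg, hX⟩ := exists_real h hst hsp T hk (NotCT.Orders.co3 hL) (P2 := [23])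
    (far_of_na (p := 23) (by norm_num) (by norm_num) (NotCT.Orders.co3 hL) (by norm_num) (H393.Iso.na_co3 hL))
    (l := [.co3, .m23, .m24, .co2]) (by decide +kernel)
  simp only [List.mem_cons, List.not_mem_nil, or_false] at hg
  rcases hg with rfl | rfl | rfl | rfl
  · exact H902.Iso.real_unique .co3 hX hL
  · have hX : Spor.IsoM23 X := hX
    exact (lemb_m23' (P.co3_nine hL) (lemb_co3 hL) hX hXs hO h hst).elim
  · have hX : Spor.IsoM24 X := hX
    exact (lemb_m24' (P.co3_nine hL) (lemb_co3 hL) hX hXs hO h hst).elim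
  · have hX : Spor.IsoCo2 X := hX
    exact (co3_co2_28 hL hX h hst).elim

theorem row_mcl (P : Pend L X) (hL : Spor.IsoMcL L) (hLs : IsSimpleGroup L) (hXs : IsSimpleGroup X) (hO : OddInn X)
    (h : SameO G L) (hst : Struct G X) (hsp : Cfsg.IsSporadic X) (T : OrderTable.{w}) (hk : IsKnownSimple' X) :
    Nonempty (X ≃* L) := by
  obtain ⟨g, hg, hX⟩ := exists_real h hst hsp T hk (NotCT.Orders.mcl hL) (P2 := [11])
    (far_of_na (p := 11) (by norm_num) (by norm_num) (NotCT.Orders.mcl hL) (by norm_num) (H393.Iso.na_mcl hL))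
    (l := [.mcl, .m11, .m12, .m22, .hs]) (by decide +kernel)
  simp only [List.mem_cons, List.not_mem_nil, or_false] at hg
  rcases hg with rfl | rfl | rfl | rfl | rfl
  · exact H902.Iso.real_unique .mcl hX hL
  · have hX : Spor.IsoM11 X := hX
    exact (mcl_m11 hL hX hXs hO h hst).elim
  · have hX : Spor.IsoM12 X := hX
    exact (mcl_m12 hL hX hXs hO h hst).elim
  · have hX : Spor.IsoM22 X := hX
    exact (mcl_m22 (P.mcl_nine hL) hL hX hXs hO h hst).elim
  · have hX : Spor.IsoHS X := hX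
    exact (mcl_hs (P.mcl_nine hL) hL hX hXs hO h hst).elim

theorem row_hs (P : Pend L X) (hL : Spor.IsoHS L) (hLs : IsSimpleGroup L) (hXs : IsSimpleGroup X) (hO : OddInn X)
    (h : SameO G L) (hst : Struct G X) (hsp : Cfsg.IsSporadic X) (T : OrderTable.{w}) (hk : IsKnownSimple' X) :
    Nonempty (X ≃* L) := by
  obtain ⟨g, hg, hX⟩ := exists_real h hst hsp T hk (NotCT.Orders.hs hL) (P2 := [11])
    (far_of_na (p := 11) (by norm_num) (by norm_num) (NotCT.Orders.hs hL) (by norm_num) (H393.Iso.na_hs hL))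
    (l := [.hs, .m11, .m12, .m22, .mcl]) (by decide +kernel)
  simp only [List.mem_cons, List.not_mem_nil, or_false] at hg
  rcases hg with rfl | rfl | rfl | rfl | rfl
  · exact H902.Iso.real_unique .hs hX hL
  · have hX : Spor.IsoM11 X := hX
    exact (hs_m11 hL hX hXs hO h hst).elim
  · have hX : Spor.IsoM12 X := hX
    exact (hs_m12 hL hX hXs hO h hst).elim
  · have hX : Spor.IsoM22 X := hX
    exact (hs_m22 (P.hs_fifteen hL) (m22_fifteen hX) hL hX hXs hO h hst).elim
  · have hX : Spor.IsoMcL X := hX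
    exact (hs_mcl hL hX h hst).elim

theorem row_suz (P : Pend L X) (hL : Spor.IsoSuz L) (hLs : IsSimpleGroup L) (hXs : IsSimpleGroup X) (hO : OddInn X)
    (h : SameO G L) (hst : Struct G X) (hsp : Cfsg.IsSporadic X) (T : OrderTable.{w}) (hk : IsKnownSimple' X) :
    Nonempty (X ≃* L) := by
  obtain ⟨g, hg, hX⟩ := exists_real h hst hsp T hk (NotCT.Orders.suz hL) (P2 := [13, 11])
    (Far.cons (p := 13) (by norm_num) (by norm_num) (NotCT.Orders.suz hL) (by norm_num) (na13_suz hL)
      (far_of_na (p := 11) (by norm_num) (by norm_num) (NotCT.Orders.suz hL) (by norm_num) (H393.Iso.na_suz hL)))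
    (l := [.suz, .fi22]) (by decide +kernel)
  simp only [List.mem_cons, List.not_mem_nil, or_false] at hg
  rcases hg with rfl | rfl
  · exact H902.Iso.real_unique .suz hX hL
  · have hX : Spor.IsoFi22 X := hX
    exact (suz_fi22 hL hX h hst).elim

theorem row_he (P : Pend L X) (hL : Spor.IsoHe L) (hLs : IsSimpleGroup L) (hXs : IsSimpleGroup X) (hO : OddInn X)
    (h : SameO G L) (hst : Struct G X) (hsp : Cfsg.IsSporadic X) (T : OrderTable.{w}) (hk : IsKnownSimple' X) :
    Nonempty (X ≃* L) := by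
  obtain ⟨g, hg, hX⟩ := exists_real h hst hsp T hk (NotCT.Orders.he hL) (P2 := [17])
    (far_of_na (p := 17) (by norm_num) (by norm_num) (NotCT.Orders.he hL) (by norm_num) (H393.Iso.na_he hL))
    (l := [.he]) (by decide +kernel)
  rw [List.mem_singleton] at hg
  subst hg
  exact H902.Iso.real_unique .he hX hL

theorem row_ru (P : Pend L X) (hL : Spor.IsoRu L) (hLs : IsSimpleGroup L) (hXs : IsSimpleGroup X) (hO : OddInn X)
    (h : SameO G L) (hst : Struct G X) (hsp : Cfsg.IsSporadic X) (T : OrderTable.{w}) (hk : IsKnownSimple' X) :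
    Nonempty (X ≃* L) := by
  obtain ⟨g, hg, hX⟩ := exists_real h hst hsp T hk (NotCT.Orders.ru hL) (P2 := [29])
    (far_of_na (p := 29) (by norm_num) (by norm_num) (NotCT.Orders.ru hL) (by norm_num) (H393.Iso.na_ru hL))
    (l := [.ru]) (by decide +kernel)
  rw [List.mem_singleton] at hg
  subst hg
  exact H902.Iso.real_unique .ru hX hL

theorem row_on (P : Pend L X) (hL : Spor.IsoON L) (hLs : IsSimpleGroup L) (hXs : IsSimpleGroup X) (hO : OddInn X)
    (h : SameO G L) (hst : Struct G X) (hsp : Cfsg.IsSporadic X) (T : OrderTable.{w}) (hk : IsKnownSimple' X) :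
    Nonempty (X ≃* L) := by
  obtain ⟨g, hg, hX⟩ := exists_real h hst hsp T hk (NotCT.Orders.on hL) (P2 := [31])
    (far_of_na (p := 31) (by norm_num) (by norm_num) (NotCT.Orders.on hL) (by norm_num) (H393.Iso.na_on hL))
    (l := [.on]) (by decide +kernel)
  rw [List.mem_singleton] at hg
  subst hg
  exact H902.Iso.real_unique .on hX hL

theorem row_ly (P : Pend L X) (hL : Spor.IsoLy L) (hLs : IsSimpleGroup L) (hXs : IsSimpleGroup X) (hO : OddInn X)
    (h : SameO G L) (hst : Struct G X) (hsp : Cfsg.IsSporadic X) (T : OrderTable.{w}) (hk : IsKnownSimple' X) :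
    Nonempty (X ≃* L) := by
  obtain ⟨g, hg, hX⟩ := exists_real h hst hsp T hk (NotCT.Orders.ly hL) (P2 := [67])
    (far_of_na (p := 67) (by norm_num) (by norm_num) (NotCT.Orders.ly hL) (by norm_num) (H393.Iso.na_ly hL))
    (l := [.ly]) (by decide +kernel)
  rw [List.mem_singleton] at hg
  subst hg
  exact H902.Iso.real_unique .ly hX hL

theorem row_fi22 (P : Pend L X) (hL : Spor.IsoFi22 L) (hLs : IsSimpleGroup L) (hXs : IsSimpleGroup X) (hO : OddInn X)
    (h : SameO G L) (hst : Struct G X) (hsp : Cfsg.IsSporadic X) (T : OrderTable.{w}) (hk : IsKnownSimple' X) :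
    Nonempty (X ≃* L) := by
  obtain ⟨g, hg, hX⟩ := exists_real h hst hsp T hk (NotCT.Orders.fi22 hL) (P2 := [13])
    (far_of_na (p := 13) (by norm_num) (by norm_num) (NotCT.Orders.fi22 hL) (by norm_num) (H393.Iso.na_fi22 hL))
    (l := [.fi22, .suz]) (by decide +kernel)
  simp only [List.mem_cons, List.not_mem_nil, or_false] at hg
  rcases hg with rfl | rfl
  · exact H902.Iso.real_unique .fi22 hX hL
  · have hX : Spor.IsoSuz X := hX
    exact (P.fi22 hL hX).elim

theorem row_fi23 (P : Pend L X) (hL : Spor.IsoFi23 L) (hLs : IsSimpleGroup L) (hXs : IsSimpleGroup X) (hO : OddInn X)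
    (h : SameO G L) (hst : Struct G X) (hsp : Cfsg.IsSporadic X) (T : OrderTable.{w}) (hk : IsKnownSimple' X) :
    Nonempty (X ≃* L) := by
  obtain ⟨g, hg, hX⟩ := exists_real h hst hsp T hk (NotCT.Orders.fi23 hL) (P2 := [23])
    (far_of_na (p := 23) (by norm_num) (by norm_num) (NotCT.Orders.fi23 hL) (by norm_num) (H393.Iso.na_fi23 hL))
    (l := [.fi23, .m23, .m24, .co1, .co2, .co3]) (by decide +kernel)
  simp only [List.mem_cons, List.not_mem_nil, or_false] at hg
  rcases hg with rfl | rfl | rfl | rfl | rfl | rfl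
  · exact H902.Iso.real_unique .fi23 hX hL
  · have hX : Spor.IsoM23 X := hX
    exact (P.fi23 hL (Or.inl hX)).elim
  · have hX : Spor.IsoM24 X := hX
    exact (P.fi23 hL (Or.inr (Or.inl hX))).elim
  · have hX : Spor.IsoCo1 X := hX
    exact (P.fi23 hL (Or.inr (Or.inr (Or.inl hX)))).elim
  · have hX : Spor.IsoCo2 X := hX
    exact (P.fi23 hL (Or.inr (Or.inr (Or.inr (Or.inl hX))))).elim
  · have hX : Spor.IsoCo3 X := hX
    exact (P.fi23 hL (Or.inr (Or.inr (Or.inr (Or.inr hX))))).elim

theorem row_fi24 (P : Pend L X) (hL : Spor.IsoFi24' L) (hLs : IsSimpleGroup L) (hXs : IsSimpleGroup X) (hO : OddInn X)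
    (h : SameO G L) (hst : Struct G X) (hsp : Cfsg.IsSporadic X) (T : OrderTable.{w}) (hk : IsKnownSimple' X) :
    Nonempty (X ≃* L) := by
  obtain ⟨g, hg, hX⟩ := exists_real h hst hsp T hk (NotCT.Orders.fi24 hL) (P2 := [29])
    (far_of_na (p := 29) (by norm_num) (by norm_num) (NotCT.Orders.fi24 hL) (by norm_num) (H393.Iso.na_fi24 hL))
    (l := [.fi24, .ru]) (by decide +kernel)
  simp only [List.mem_cons, List.not_mem_nil, or_false] at hg
  rcases hg with rfl | rfl
  · exact H902.Iso.real_unique .fi24 hX hL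
  · have hX : Spor.IsoRu X := hX
    exact (P.fi24 hL hX).elim

theorem row_hn (P : Pend L X) (hL : Spor.IsoHN L) (hLs : IsSimpleGroup L) (hXs : IsSimpleGroup X) (hO : OddInn X)
    (h : SameO G L) (hst : Struct G X) (hsp : Cfsg.IsSporadic X) (T : OrderTable.{w}) (hk : IsKnownSimple' X) :
    Nonempty (X ≃* L) := by
  obtain ⟨g, hg, hX⟩ := exists_real h hst hsp T hk (NotCT.Orders.hn hL) (P2 := [19])
    (far_of_na (p := 19) (by norm_num) (by norm_num) (NotCT.Orders.hn hL) (by norm_num) (H393.Iso.na_hn hL))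
    (l := [.hn, .j1]) (by decide +kernel)
  simp only [List.mem_cons, List.not_mem_nil, or_false] at hg
  rcases hg with rfl | rfl
  · exact H902.Iso.real_unique .hn hX hL
  · have hX : Spor.IsoJ1 X := hX
    exact (P.hn hL hX).elim

theorem row_th (P : Pend L X) (hL : Spor.IsoTh L) (hLs : IsSimpleGroup L) (hXs : IsSimpleGroup X) (hO : OddInn X)
    (h : SameO G L) (hst : Struct G X) (hsp : Cfsg.IsSporadic X) (T : OrderTable.{w}) (hk : IsKnownSimple' X) :
    Nonempty (X ≃* L) := by
  obtain ⟨g, hg, hX⟩ := exists_real h hst hsp T hk (NotCT.Orders.th hL) (P2 := [19])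
    (far_of_na (p := 19) (by norm_num) (by norm_num) (NotCT.Orders.th hL) (by norm_num) (H393.Iso.na_th hL))
    (l := [.th]) (by decide +kernel)
  rw [List.mem_singleton] at hg
  subst hg
  exact H902.Iso.real_unique .th hX hL

theorem row_b (P : Pend L X) (hL : Spor.IsoB L) (hLs : IsSimpleGroup L) (hXs : IsSimpleGroup X) (hO : OddInn X)
    (h : SameO G L) (hst : Struct G X) (hsp : Cfsg.IsSporadic X) (T : OrderTable.{w}) (hk : IsKnownSimple' X) :
    Nonempty (X ≃* L) := by
  obtain ⟨g, hg, hX⟩ := exists_real h hst hsp T hk (NotCT.Orders.b hL) (P2 := [47])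
    (far_of_na (p := 47) (by norm_num) (by norm_num) (NotCT.Orders.b hL) (by norm_num) (H393.Iso.na_b hL))
    (l := [.b]) (by decide +kernel)
  rw [List.mem_singleton] at hg
  subst hg
  exact H902.Iso.real_unique .b hX hL

theorem row_m (P : Pend L X) (hL : Spor.IsoM L) (hLs : IsSimpleGroup L) (hXs : IsSimpleGroup X) (hO : OddInn X)
    (h : SameO G L) (hst : Struct G X) (hsp : Cfsg.IsSporadic X) (T : OrderTable.{w}) (hk : IsKnownSimple' X) :
    Nonempty (X ≃* L) := by
  obtain ⟨g, hg, hX⟩ := exists_real h hst hsp T hk (NotCT.Orders.m hL) (P2 := [71])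
    (far_of_na (p := 71) (by norm_num) (by norm_num) (NotCT.Orders.m hL) (by norm_num) (H393.Iso.na_m hL (Or.inr (Or.inr rfl))))
    (l := [.m]) (by decide +kernel)
  rw [List.mem_singleton] at hg
  subst hg
  exact H902.Iso.real_unique .m hX hL

/-- **`L` sporadic.** -/
theorem spor_case (P : Pend L X) (hL : IsSporadicGroup L) (hLs : IsSimpleGroup L) (hO : OddInn X)
    (h : SameO G L) (hst : Struct G X) (hsp : Cfsg.IsSporadic X) (T : OrderTable.{w}) (hk : IsKnownSimple' X) :
    Nonempty (X ≃* L) := by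
  have hXs : IsSimpleGroup X := Cfsg.Agent.H61.SpAlt.isSimple_of_sp hsp
  rcases hL with hL | hL | hL | hL | hL | hL | hL | hL | hL | hL | hL | hL | hL | hL | hL | hL | hL | hL | hL | hL | hL | hL | hL | hL | hL | hL
  · exact row_m11 P hL hLs hXs hO h hst hsp T hk
  · exact row_m12 P hL hLs hXs hO h hst hsp T hk
  · exact row_m22 P hL hLs hXs hO h hst hsp T hk
  · exact row_m23 P hL hLs hXs hO h hst hsp T hk
  · exact row_m24 P hL hLs hXs hO h hst hsp T hk
  · exact row_j1 P hL hLs hXs hO h hst hsp T hk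
  · exact row_j2 P hL hLs hXs hO h hst hsp T hk
  · exact row_j3 P hL hLs hXs hO h hst hsp T hk
  · exact row_j4 P hL hLs hXs hO h hst hsp T hk
  · exact row_co1 P hL hLs hXs hO h hst hsp T hk
  · exact row_co2 P hL hLs hXs hO h hst hsp T hk
  · exact row_co3 P hL hLs hXs hO h hst hsp T hk
  · exact row_mcl P hL hLs hXs hO h hst hsp T hk
  · exact row_hs P hL hLs hXs hO h hst hsp T hk
  · exact row_suz P hL hLs hXs hO h hst hsp T hk
  · exact row_he P hL hLs hXs hO h hst hsp T hk
  · exact row_ru P hL hLs hXs hO h hst hsp T hk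
  · exact row_on P hL hLs hXs hO h hst hsp T hk
  · exact row_ly P hL hLs hXs hO h hst hsp T hk
  · exact row_fi22 P hL hLs hXs hO h hst hsp T hk
  · exact row_fi23 P hL hLs hXs hO h hst hsp T hk
  · exact row_fi24 P hL hLs hXs hO h hst hsp T hk
  · exact row_hn P hL hLs hXs hO h hst hsp T hk
  · exact row_th P hL hLs hXs hO h hst hsp T hk
  · exact row_b P hL hLs hXs hO h hst hsp T hk
  · exact row_m P hL hLs hXs hO h hst hsp T hk

end Cfsg.Agent.H385.Sp
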