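import Cfsg.Agent.H61.SpAltNum
import Cfsg.Agent.H385.SpPairs
import Cfsg.Agent.H393.Iso.Base

/-!
# The numerical table for the sporadic groups `L` (helper385)
-/

set_option autoImplicit false
set_option maxRecDepth 100000

namespace Cfsg.Agent.H385.Sp

open Subgroup Cfsg Cfsg.Agent.H403 Cfsg.Agent.OrdDiv

universe u v w

/-- the sporadic orders whose primes divide `N` and which are divisible by the primes of `P2` belong to `l` -/
def tab (N : ℕ) (P2 : List ℕ) (l : List Grp) : Bool :=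
  sporFac.all fun x => !((x.2.2.all fun y => Nat.beq (N % y.1) 0) && (P2.all fun p => Nat.beq (x.2.1 % p) 0)) ||
    l.contains x.1 || x.1 == .tits

/-- the odd primes of `P2` divide the order of `L` and are not joined to `2` -/
def Far (L : Type*) [Group L] (P2 : List ℕ) : Prop :=
  ∀ p ∈ P2, p.Prime ∧ p ≠ 2 ∧ p ∣ Nat.card L ∧ ¬ ∃ a : L, orderOf a = 2 * p

theorem far_of_na {L : Type*} [Group L] [Finite L] {p N : ℕ} (hp : p.Prime) (hp2 : p ≠ 2) (hN : Nat.card L = N)
    (hd : p ∣ N) (h : Cfsg.Agent.H393.Iso.NA p L) : Far L [p] := by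
  intro r hr
  rw [List.mem_singleton] at hr
  subst hr
  exact ⟨hp, hp2, by rw [hN]; exact hd, fun ⟨a, ha⟩ => h.ne_two_mul hp a ha⟩

theorem Far.cons {L : Type*} [Group L] [Finite L] {p N : ℕ} {P2 : List ℕ} (hp : p.Prime) (hp2 : p ≠ 2)
    (hN : Nat.card L = N) (hd : p ∣ N) (h : Cfsg.Agent.H393.Iso.NA p L) (h' : Far L P2) : Far L (p :: P2) := by
  intro r hr
  rcases List.mem_cons.1 hr with rfl | hr
  · exact ⟨hp, hp2, by rw [hN]; exact hd, fun ⟨a, ha⟩ => h.ne_two_mul hp a ha⟩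
  · exact h' r hr

variable {L : Type u} [Group L] [Finite L] {G : Type v} [Group G] [Finite G] {X : Type w} [Group X]

/-- **The table.** -/
theorem exists_real (h : SameO G L) (hst : Struct G X) (hsp : Cfsg.IsSporadic X) (T : OrderTable.{w})
    (hk : IsKnownSimple' X) {N : ℕ} (hN : Nat.card L = N) {P2 : List ℕ} (hF : Far L P2) {l : List Grp}
    (ht : tab N P2 l = true) : ∃ g ∈ l, Real g X := by
  have hf : Finite X := Cfsg.Agent.H61.SpAlt.finite_of_st hst
  have hs : IsSimpleGroup X := Cfsg.Agent.H61.SpAlt.isSimple_of_sp hsp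
  obtain ⟨x, hx, hc, htits⟩ := Cfsg.Agent.H61.SpAlt.card_mem_sp hsp
  have hfac := List.all_eq_true.1 Cfsg.Agent.H61.SpAlt.fac_check x hx
  rw [Bool.and_eq_true, Nat.beq_eq] at hfac
  have hprimes : ∀ y ∈ x.2.2, y.1.Prime ∧ y.1 ∣ Nat.card X := by
    intro y hy
    have h1 := List.all_eq_true.1 hfac.2 y hy
    rw [Bool.and_eq_true, Bool.and_eq_true, Nat.beq_eq, Nat.blt_eq] at h1
    exact ⟨Cfsg.Agent.H61.SpAlt.prime_of_check h1.1.2 h1.2, by rw [hc]; exact Nat.dvd_of_mod_eq_zero h1.1.1⟩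
  have hp1 : (x.2.2.all fun y => Nat.beq (N % y.1) 0) = true := by
    rw [List.all_eq_true]
    intro y hy
    rw [Nat.beq_eq]
    obtain ⟨hy1, hy2⟩ := hprimes y hy
    have := Fact.mk hy1
    obtain ⟨z, hz⟩ := exists_prime_orderOf_dvd_card' y.1 hy2
    obtain ⟨a, ha⟩ := (h y.1).1 (exists_of_X hst hy1.ne_zero ⟨z, hz⟩)
    apply Nat.mod_eq_zero_of_dvd
    rw [← hN, ← ha]
    exact orderOf_dvd_natCard a
  have hp2 : (P2.all fun p => Nat.beq (x.2.1 % p) 0) = true := by
    rw [List.all_eq_true]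
    intro p hp
    rw [Nat.beq_eq]
    obtain ⟨h1, h2, h3, h4⟩ := hF p hp
    have := Fact.mk h1
    obtain ⟨a, ha⟩ := exists_prime_orderOf_dvd_card' p h3
    obtain ⟨K, hK, S, hS, -, -, -, hd⟩ := hst
    obtain ⟨g, hg⟩ := (h p).2 ⟨a, ha⟩
    apply Nat.mod_eq_zero_of_dvd
    rw [← hc]
    have h5 := hd p h1 h2 (by rw [← hg]; exact orderOf_dvd_natCard g) (by rw [h]; exact h4) 1
      (by rw [pow_one, ← hg]; exact orderOf_dvd_natCard g)
    rwa [pow_one] at h5
  have hl := List.all_eq_true.1 ht x hx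
  rw [hp1, hp2, htits] at hl
  simp only [Bool.and_self, Bool.not_true, Bool.false_or, Bool.or_false] at hl
  refine ⟨x.1, List.contains_iff_mem.1 hl, ?_⟩
  refine real_of_card T hk ?_ hx hc
  intro hcom
  have h2 : Nat.card X ≠ 1 := by
    have := Finite.one_lt_card_iff_nontrivial.2 (inferInstance : Nontrivial X)
    omega
  have hpr : (Nat.card X).Prime := by
    let _ : CommGroup X := { (inferInstance : Group X) with mul_comm := hcom }
    exact IsSimpleGroup.prime_card
  rw [hc] at hpr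
  revert hpr
  have hno : ∀ y ∈ sporFac, ¬ y.2.1.Prime := by
    have key : (sporFac.all fun y => Nat.beq (y.2.1 % 2) 0 && !(Nat.beq y.2.1 2)) = true := by decide +kernel
    intro y hy hy1
    have h3 := List.all_eq_true.1 key y hy
    rw [Bool.and_eq_true, Nat.beq_eq, Bool.not_eq_true', ← Bool.not_eq_true, Nat.beq_eq] at h3
    exact h3.2 ((Nat.prime_dvd_prime_iff_eq Nat.prime_two hy1).1 (Nat.dvd_of_mod_eq_zero h3.1)).symm
  exact hno x hx

end Cfsg.Agent.H385.Sp
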